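import Cfsg.Agent.H7.NBpComp
import Cfsg.Prelude.Def_Classification2

/-!
# The induction hypothesis for the hub S5003 (helper718)

`IH p n` : every finite nonabelian simple group of order less than `n` (in `Type`) has a nonprincipal
`p`-block.  The rows may use `IH p (Nat.card S)`.
-/

set_option autoImplicit false

namespace Cfsg.Agent.H718.NBIH

open Cfsg Cfsg.Agent.H7.NBp

/-- every finite nonabelian simple group of order less than `n` has a nonprincipal `p`-block -/
def IH (p n : ℕ) : Prop :=
  ∀ (T : Type) [Group T] [Finite T] [IsSimpleGroup T], ¬ IsMulCommutative T → Nat.card T < n → NB p T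

theorem IH.mono {p m n : ℕ} (h : IH p n) (hmn : m ≤ n) : IH p m :=
  fun T _ _ _ h1 h2 => h T h1 (lt_of_lt_of_le h2 hmn)

/-- the induction hypothesis for groups in an arbitrary universe -/
theorem IH.use {p n : ℕ} (h : IH p n) {S : Type*} [Group S] [Finite S] [IsSimpleGroup S]
    (hna : ¬ IsMulCommutative S) (hn : Nat.card S < n) : NB p S := by
  classical
  let f : Shrink.{0} S ≃* S := Shrink.mulEquiv
  have hfin : Finite (Shrink.{0} S) := Finite.of_equiv S f.symm.toEquiv
  have hs : IsSimpleGroup (Shrink.{0} S) := by
    have : Nontrivial (Shrink.{0} S) := f.toEquiv.nontrivial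
    exact IsSimpleGroup.isSimpleGroup_of_surjective f.symm.toMonoidHom f.symm.surjective
  have hna' : ¬ IsMulCommutative (Shrink.{0} S) := by
    intro h1
    apply hna
    refine ⟨⟨fun a b => ?_⟩⟩
    have h2 := h1.is_comm.comm (f.symm a) (f.symm b)
    rw [← map_mul, ← map_mul] at h2
    exact f.symm.injective h2
  have h1 : NB p (Shrink.{0} S) := h _ hna' (by
    rw [Nat.card_congr f.toEquiv]
    exact hn)
  exact NB.iso f h1

end Cfsg.Agent.H718.NBIH
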