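import Mathlib
import Cfsg.Agent.Characters.GaloisBasic
import Cfsg.Agent.CharactersDeep.SumRootsUnity

/-!
# Galois averages over a cyclotomic field

* `Cyc n`: the subfield of `ℂ` generated by the `n`-th roots of unity.
* `exists_galois_avg`: for `n ≠ 0` there is a finite nonempty family of automorphisms of `ℂ` such
  that the sum of the squared absolute values of the conjugates of every nonzero algebraic integer
  in `Cyc n` is at least the number of members of the family.
-/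

set_option autoImplicit false

namespace Cfsg.Agent.H718

open Polynomial

/-- The subfield of `ℂ` generated by the `n`-th roots of unity. -/
noncomputable def Cyc (n : ℕ) : IntermediateField ℚ ℂ :=
  IntermediateField.adjoin ℚ {b : ℂ | b ^ n = 1}

theorem mem_Cyc_of_pow {n : ℕ} {z : ℂ} (hz : z ^ n = 1) : z ∈ Cyc n :=
  IntermediateField.subset_adjoin ℚ _ hz

theorem isCyclotomicExtension_Cyc {n : ℕ} (hn : n ≠ 0) : IsCyclotomicExtension {n} ℚ (Cyc n) := by
  have h := IntermediateField.isCyclotomicExtension_adjoin_of_exists_isPrimitiveRoot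
    {n} ℚ ℂ (fun m hm h0 => ⟨_, Complex.isPrimitiveRoot_exp m h0⟩)
  have hs : {b : ℂ | ∃ m ∈ ({n} : Set ℕ), m ≠ 0 ∧ b ^ m = 1} = {b : ℂ | b ^ n = 1} := by
    ext b
    constructor
    · rintro ⟨m, hm, -, hb⟩
      rw [Set.mem_singleton_iff] at hm
      subst hm
      exact hb
    · intro hb
      exact ⟨n, rfl, hn, hb⟩
  rw [hs] at h
  exact h

/-- Galois averaging: a finite nonempty family of automorphisms of `ℂ` such that the sum of the
squared absolute values of the conjugates of a nonzero algebraic integer in the field of `n`-th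
roots of unity is at least the number of members. -/
theorem exists_galois_avg (n : ℕ) (hn : n ≠ 0) :
    ∃ (ι : Type) (_ : Fintype ι) (_ : Nonempty ι) (σ : ι → (ℂ ≃+* ℂ)),
      ∀ a : ℂ, IsIntegral ℤ a → a ∈ Cyc n → a ≠ 0 →
        (Fintype.card ι : ℝ) ≤ ∑ i, ‖σ i a‖ ^ 2 := by
  classical
  have : NeZero n := ⟨hn⟩
  have hcyc := isCyclotomicExtension_Cyc hn
  have : FiniteDimensional ℚ (Cyc n) := IsCyclotomicExtension.finiteDimensional {n} ℚ (Cyc n)
  have : IsGalois ℚ (Cyc n) := IsCyclotomicExtension.isGalois {n} ℚ (Cyc n)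
  have hex : ∀ s : (Cyc n) ≃ₐ[ℚ] (Cyc n), ∃ τ : ℂ ≃+* ℂ, ∀ x : Cyc n,
      τ (algebraMap (Cyc n) ℂ x) = algebraMap (Cyc n) ℂ (s x) := fun s =>
    Cfsg.Agent.Characters.GaloisBasic.exists_ringEquiv_extend s.toRingEquiv
  choose τ hτ using hex
  refine ⟨(Cyc n) ≃ₐ[ℚ] (Cyc n), inferInstance, ⟨AlgEquiv.refl⟩, τ, ?_⟩
  intro a haint ha ha0
  set x : Cyc n := ⟨a, ha⟩ with hx
  have hxa : algebraMap (Cyc n) ℂ x = a := rfl
  have hx0 : x ≠ 0 := by
    intro h
    apply ha0
    rw [← hxa, h, map_zero]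
  have hxint : IsIntegral ℤ x := by
    have : IsIntegral ℤ (algebraMap (Cyc n) ℂ x) := haint
    exact (isIntegral_algebraMap_iff (algebraMap (Cyc n) ℂ).injective).1 this
  have hnint : IsIntegral ℤ (Algebra.norm ℚ x) := Algebra.isIntegral_norm ℚ hxint
  obtain ⟨N, hN⟩ := IsIntegrallyClosed.isIntegral_iff.1 hnint
  have hN0 : N ≠ 0 := by
    intro h
    rw [h, map_zero] at hN
    exact hx0 (Algebra.norm_eq_zero_iff.1 hN.symm)
  have hnorm : algebraMap ℚ (Cyc n) (Algebra.norm ℚ x) = ∏ s : (Cyc n) ≃ₐ[ℚ] (Cyc n), s x :=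
    Algebra.norm_eq_prod_automorphisms ℚ x
  have hprod : ∏ s : (Cyc n) ≃ₐ[ℚ] (Cyc n), τ s a = (N : ℂ) := by
    have h1 : ∀ s, τ s a = algebraMap (Cyc n) ℂ (s x) := fun s => by rw [← hxa, hτ]
    simp_rw [h1]
    rw [← map_prod, ← hnorm, ← hN]
    simp
  have h1 : 1 ≤ ∏ s : (Cyc n) ≃ₐ[ℚ] (Cyc n), ‖τ s a‖ := by
    rw [← norm_prod, hprod, Complex.norm_intCast]
    exact_mod_cast Int.one_le_abs hN0
  exact (Cfsg.Agent.CharactersDeep.SumRootsUnity.card_le_sum_sq (fun s => ‖τ s a‖)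
    (fun _ => norm_nonneg _) h1).1

end Cfsg.Agent.H718
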