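import Cfsg.Agent.H718.KGVCore

/-!
# The functions `δ` for the `k(GV)` criteria

* `IntCl f`: `f` is a class function all of whose inner products with irreducible characters are
  algebraic integers; a ring containing the characters.
* `Delta M act δ`: `δ` is such a function with `|δ h|² = |S| / |C_S(h)|` (for all conjugates),
  `δ 1 = 1`, and `δ h ∈ M` if `h` acts nontrivially.
* `card_conjClasses_le_of_Delta`: the criterion for `k(GV) ≤ |V|`.
-/

set_option autoImplicit false
set_option linter.unusedSectionVars false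

open scoped ComplexConjugate

namespace Cfsg.Agent.H718

open Cfsg Cfsg.Agent.Characters.Core Cfsg.Agent.Blocks.Local

section IntCl

variable {H : Type*} [Group H] [Fintype H]

/-- Class functions with algebraic integer coefficients. -/
def IntCl (f : H → ℂ) : Prop :=
  IsClassFunction H f ∧ ∀ ψ : H → ℂ, IsIrrCharacter H ψ → IsIntegral ℤ (classInner f ψ)

theorem IntCl.of_isCharacter {χ : H → ℂ} (hχ : IsCharacter H χ) : IntCl χ := by
  refine ⟨isCharacter_isClassFunction hχ, fun ψ hψ => ?_⟩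
  obtain ⟨n, hn⟩ := classInner_isNat hχ (isIrr_isCharacter hψ)
  rw [hn]
  exact isIntegral_natCast n

theorem IntCl.add {f g : H → ℂ} (hf : IntCl f) (hg : IntCl g) : IntCl (f + g) := by
  refine ⟨fun a b => ?_, fun ψ hψ => ?_⟩
  · simp only [Pi.add_apply]
    rw [hf.1 a b, hg.1 a b]
  · rw [classInner_add_left]
    exact (hf.2 ψ hψ).add (hg.2 ψ hψ)

theorem IntCl.smul {f : H → ℂ} (hf : IntCl f) {c : ℂ} (hc : IsIntegral ℤ c) : IntCl (c • f) := by
  refine ⟨fun a b => ?_, fun ψ hψ => ?_⟩
  · simp only [Pi.smul_apply]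
    rw [hf.1 a b]
  · rw [classInner_smul_left]
    exact hc.mul (hf.2 ψ hψ)

theorem IntCl.zero : IntCl (0 : H → ℂ) := by
  refine ⟨fun a b => rfl, fun ψ _ => ?_⟩
  rw [classInner_zero_left]
  exact isIntegral_zero

theorem IntCl.sum {ι : Type*} (s : Finset ι) {f : ι → H → ℂ} (hf : ∀ i ∈ s, IntCl (f i)) :
    IntCl (∑ i ∈ s, f i) := by
  classical
  induction s using Finset.induction_on with
  | empty => simpa using IntCl.zero
  | insert a s ha ih =>
    rw [Finset.sum_insert ha]
    exact (hf a (Finset.mem_insert_self a s)).add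
      (ih (fun i hi => hf i (Finset.mem_insert_of_mem hi)))

theorem IntCl.mul {f g : H → ℂ} (hf : IntCl f) (hg : IntCl g) : IntCl (f * g) := by
  classical
  have : Finite (IrrCharacter H) := finite_irr
  have : Fintype (IrrCharacter H) := Fintype.ofFinite _
  have hf' := classFunction_eq_sum hf.1
  have hg' := classFunction_eq_sum hg.1
  have h1 : f * g = ∑ χ : IrrCharacter H, ∑ ψ : IrrCharacter H,
      (classInner f (χ : H → ℂ) * classInner g (ψ : H → ℂ)) • ((χ : H → ℂ) * (ψ : H → ℂ)) := by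
    conv_lhs => rw [hf', hg']
    rw [Finset.sum_mul]
    refine Finset.sum_congr rfl (fun χ _ => ?_)
    rw [Finset.mul_sum]
    refine Finset.sum_congr rfl (fun ψ _ => ?_)
    rw [smul_mul_smul_comm]
  rw [h1]
  refine IntCl.sum _ (fun χ _ => IntCl.sum _ (fun ψ _ => ?_))
  exact (IntCl.of_isCharacter (isCharacter_mul (isIrr_isCharacter χ.2)
    (isIrr_isCharacter ψ.2))).smul ((hf.2 χ χ.2).mul (hg.2 ψ ψ.2))

theorem IntCl.one : IntCl (1 : H → ℂ) := IntCl.of_isCharacter isCharacter_one

theorem IntCl.isIntegral {f : H → ℂ} (hf : IntCl f) (h : H) : IsIntegral ℤ (f h) := by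
  classical
  have : Finite (IrrCharacter H) := finite_irr
  have : Fintype (IrrCharacter H) := Fintype.ofFinite _
  have hf' := classFunction_eq_sum hf.1
  rw [hf', Finset.sum_apply]
  refine IsIntegral.sum _ (fun χ _ => ?_)
  exact (hf.2 χ χ.2).mul (isIntegral_character (isIrr_isCharacter χ.2) h)

end IntCl

theorem Cyc_le {m n : ℕ} (h : m ∣ n) : Cyc m ≤ Cyc n := by
  unfold Cyc
  rw [IntermediateField.adjoin_le_iff]
  intro b hb
  obtain ⟨k, rfl⟩ := h
  apply mem_Cyc_of_pow
  have hb' : b ^ m = 1 := hb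
  rw [pow_mul, hb', one_pow]

/-- The properties of `δ` needed for the criterion. -/
structure Delta {H : Type*} [Group H] [Fintype H] (M : Ideal AlgInt) {S : Type*}
    (act : H → S → S) (δ : H → ℂ) : Prop where
  int : IntCl δ
  cyc : ∃ n : ℕ, n ≠ 0 ∧ ∀ h, δ h ∈ Cyc n
  one : δ 1 = 1
  mem : ∀ h, (∃ s, act h s ≠ s) → MemLocalIdeal M (δ h)
  abs : ∀ (σ : ℂ ≃+* ℂ) (h : H), ‖σ (δ h)‖ ^ 2 * Nat.card {s : S // act h s = s} = Nat.card S

namespace Delta

variable {H : Type*} [Group H] [Fintype H] {M : Ideal AlgInt}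

theorem congr {S S' : Type*} {act : H → S → S} {act' : H → S' → S'} {δ : H → ℂ}
    (h : Delta M act δ) (e : S ≃ S') (he : ∀ g s, e (act g s) = act' g (e s)) :
    Delta M act' δ where
  int := h.int
  cyc := h.cyc
  one := h.one
  mem := by
    rintro g ⟨s, hs⟩
    refine h.mem g ⟨e.symm s, fun h1 => hs ?_⟩
    have := he g (e.symm s)
    rw [h1, e.apply_symm_apply] at this
    exact this.symm
  abs := by
    intro σ g
    have e2 : {s : S // act g s = s} ≃ {s : S' // act' g s = s} :=
      e.subtypeEquiv (fun s => by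
        rw [← he g s]
        exact ⟨fun h => congrArg e h, fun h => e.injective h⟩)
    rw [← Nat.card_congr e2, ← Nat.card_congr e]
    exact h.abs σ g

theorem prod (hM : M.IsPrime) {S S' : Type*} {act : H → S → S} {act' : H → S' → S'} {δ δ' : H → ℂ}
    (h : Delta M act δ) (h' : Delta M act' δ') :
    Delta M (fun g (q : S × S') => (act g q.1, act' g q.2)) (δ * δ') where
  int := h.int.mul h'.int
  cyc := by
    obtain ⟨n, hn, h1⟩ := h.cyc
    obtain ⟨n', hn', h1'⟩ := h'.cyc
    refine ⟨n * n', mul_ne_zero hn hn', fun g => ?_⟩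
    exact mul_mem (Cyc_le (Dvd.intro _ rfl) (h1 g)) (Cyc_le (Dvd.intro_left _ rfl) (h1' g))
  one := by rw [Pi.mul_apply, h.one, h'.one, one_mul]
  mem := by
    rintro g ⟨⟨s, s'⟩, hs⟩
    by_cases h1 : act g s = s
    · have h2 : act' g s' ≠ s' := fun h2 => hs (by simp [h1, h2])
      exact memLocalIdeal_mul_left (memLocalRing_of_isIntegral (h.int.isIntegral g))
        (h'.mem g ⟨s', h2⟩)
    · exact memLocalIdeal_mul_right (h.mem g ⟨s, h1⟩)
        (memLocalRing_of_isIntegral (h'.int.isIntegral g))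
  abs := by
    intro σ g
    have e : {q : S × S' // (act g q.1, act' g q.2) = q} ≃
        {s : S // act g s = s} × {s : S' // act' g s = s} :=
      { toFun := fun q => (⟨q.1.1, congrArg Prod.fst q.2⟩, ⟨q.1.2, congrArg Prod.snd q.2⟩)
        invFun := fun q => ⟨(q.1.1, q.2.1), Prod.ext q.1.2 q.2.2⟩
        left_inv := fun q => rfl
        right_inv := fun q => rfl }
    rw [Nat.card_congr e, Nat.card_prod, Nat.card_prod, Pi.mul_apply, map_mul, norm_mul, mul_pow]
    push_cast
    rw [← h.abs σ g, ← h'.abs σ g]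
    ring

theorem of_trivial {S : Type*} [Finite S] {act : H → S → S} (hact : ∀ g s, act g s = s) :
    Delta M act 1 where
  int := IntCl.one
  cyc := ⟨1, one_ne_zero, fun h => one_mem _⟩
  one := rfl
  mem := by
    rintro g ⟨s, hs⟩
    exact absurd (hact g s) hs
  abs := by
    intro σ g
    rw [Nat.card_congr (Equiv.subtypeUnivEquiv (hact g))]
    simp

end Delta

theorem card_mul_relIndex' {X : Type*} [Group X] {A B : Subgroup X} (h : A ≤ B) :
    Nat.card A * A.relIndex B = Nat.card B := by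
  rw [← Subgroup.relIndex_bot_left, ← Subgroup.relIndex_bot_left B]
  exact Subgroup.relIndex_mul_relIndex _ _ _ bot_le h

/-- **The criterion**: `U ≤ V` normalized by `H = C_G(v)` on which `H` acts faithfully and which
has a `δ`. -/
theorem card_conjClasses_le_of_Delta {X : Type*} [Group X] [Finite X] {p : ℕ} [Fact p.Prime]
    {V : Subgroup X} [V.Normal] (hVp : IsPGroup p V) (hidx : ¬ p ∣ V.index)
    (hab : ∀ a ∈ V, ∀ b ∈ V, a * b = b * a) (G : Subgroup X) (hGV : Subgroup.IsComplement' V G)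
    {v : X} (hv : v ∈ V) (H : Subgroup X) (hH : H = G ⊓ Subgroup.centralizer ({v} : Set X))
    [Fintype H] {M : Ideal AlgInt} (hM : IsPModular p M) (U : Subgroup X) (hUV : U ≤ V)
    (act : H → U → U) (hact : ∀ (h : H) (u : U), ((act h u : U) : X) = h * u * (h : X)⁻¹)
    (hfaith : ∀ h : H, (∀ u : U, act h u = u) → h = 1) {δ : H → ℂ} (hδ : Delta M act δ) :
    Nat.card (ConjClasses X) ≤ Nat.card V := by
  classical
  obtain ⟨n, hn, hcyc⟩ := hδ.cyc
  refine card_conjClasses_le_of_delta (n := n * Nat.card X) hVp hidx hab G hGV hv H hH hM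
    (mul_ne_zero hn Nat.card_pos.ne') (Dvd.intro_left _ rfl) δ hδ.int.1 hδ.int.2
    (fun h => Cyc_le (Dvd.intro _ rfl) (hcyc h)) hδ.one ?_ ?_
  · intro h hh
    apply hδ.mem
    by_contra hcon
    push Not at hcon
    exact hh (hfaith h hcon)
  · intro σ h
    have h1 := hδ.abs σ h
    set C : Subgroup X := V ⊓ Subgroup.centralizer ({(h : X)} : Set X) with hC
    -- the fixed points in `U`
    have e : {u : U // act h u = u} ≃ ↥(C ⊓ U) :=
      { toFun := fun u => ⟨(u.1 : X), ⟨⟨hUV u.1.2, Subgroup.mem_centralizer_singleton_iff.2 (by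
          have h2 := congrArg (Subtype.val) u.2
          rw [hact] at h2
          have h3 : (h : X) * (u.1 : X) = u.1 * h := by
            conv_rhs => rw [← h2]
            group
          exact h3.symm)⟩, u.1.2⟩⟩
        invFun := fun u => ⟨⟨u.1, u.2.2⟩, Subtype.ext (by
          rw [hact]
          have h2 := Subgroup.mem_centralizer_singleton_iff.1 u.2.1.2
          show (h : X) * u.1 * (h : X)⁻¹ = u.1
          rw [← h2]
          group)⟩
        left_inv := fun u => rfl
        right_inv := fun u => rfl }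
    rw [Nat.card_congr e] at h1
    -- `|C| |U| ≤ |C ⊓ U| |V|`
    have h2 : Nat.card C * Nat.card U ≤ Nat.card ↥(C ⊓ U) * Nat.card V := by
      have h3 : (C ⊓ U).relIndex C ≤ U.relIndex V := by
        rw [inf_comm, Subgroup.inf_relIndex_right]
        have hCV : C ≤ V := inf_le_left
        exact Subgroup.relIndex_le_of_le_right hCV Subgroup.FiniteIndex.index_ne_zero
      have h4 : Nat.card ↥(C ⊓ U) * (C ⊓ U).relIndex C = Nat.card C :=
        card_mul_relIndex' inf_le_left
      have h5 : Nat.card U * U.relIndex V = Nat.card V := card_mul_relIndex' hUV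
      calc Nat.card C * Nat.card U = Nat.card ↥(C ⊓ U) * (C ⊓ U).relIndex C * Nat.card U := by
            rw [h4]
        _ ≤ Nat.card ↥(C ⊓ U) * U.relIndex V * Nat.card U := by gcongr
        _ = Nat.card ↥(C ⊓ U) * (Nat.card U * U.relIndex V) := by ring
        _ = _ := by rw [h5]
    have hU0 : (0 : ℝ) < Nat.card U := by exact_mod_cast Nat.card_pos
    have hCU0 : (0 : ℝ) < Nat.card ↥(C ⊓ U) := by exact_mod_cast Nat.card_pos
    have h2' : (Nat.card C : ℝ) * Nat.card U ≤ Nat.card ↥(C ⊓ U) * Nat.card V := by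
      exact_mod_cast h2
    have h6 : ‖σ (δ h)‖ ^ 2 * (Nat.card C : ℝ) * (Nat.card ↥(C ⊓ U) : ℝ) ≤
        (Nat.card V : ℝ) * (Nat.card ↥(C ⊓ U) : ℝ) := by
      have e1 : ‖σ (δ h)‖ ^ 2 * (Nat.card C : ℝ) * (Nat.card ↥(C ⊓ U) : ℝ) =
          (‖σ (δ h)‖ ^ 2 * (Nat.card ↥(C ⊓ U) : ℝ)) * (Nat.card C : ℝ) := by ring
      rw [e1, h1, mul_comm (Nat.card V : ℝ), mul_comm (Nat.card U : ℝ)]
      exact h2'
    exact le_of_mul_le_mul_right h6 hCU0

end Cfsg.Agent.H718
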