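import Cfsg.Agent.H718.Delta
import Cfsg.Agent.Blocks.PElements

/-!
# Dividing by a permutation character with prime power values
-/

set_option autoImplicit false
set_option linter.unusedSectionVars false

open scoped ComplexConjugate

namespace Cfsg.Agent.H718

open Cfsg Cfsg.Agent.Characters.Core Cfsg.Agent.Blocks.Local

section

variable {H : Type*} [Group H] [Fintype H]

theorem IntCl.pow {f : H → ℂ} (hf : IntCl f) (n : ℕ) : IntCl (f ^ n) := by
  induction n with
  | zero => rw [pow_zero]; exact IntCl.one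
  | succ n ih => rw [pow_succ]; exact ih.mul hf

theorem IntCl.poly {f : H → ℂ} (hf : IntCl f) (P : Polynomial ℤ) :
    IntCl (fun h => Polynomial.aeval (f h) P) := by
  have h1 : (fun h => Polynomial.aeval (f h) P) =
      ∑ i ∈ Finset.range (P.natDegree + 1), ((P.coeff i : ℤ) : ℂ) • (f ^ i) := by
    funext h
    rw [Polynomial.aeval_eq_sum_range, Finset.sum_apply]
    refine Finset.sum_congr rfl (fun i _ => ?_)
    rw [Pi.smul_apply, Pi.pow_apply, smul_eq_mul, zsmul_eq_mul]
  rw [h1]
  refine IntCl.sum _ (fun i _ => (hf.pow i).smul ?_)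
  exact isIntegral_algebraMap (R := ℤ) (x := P.coeff i)

/-- Descent: if `π δ` has integral coefficients, `π` is a class function with integral coefficients
whose values are powers of `p`, `p ∤ |H|` and the values of `δ` are integral, then `δ` has integral
coefficients. -/
theorem IntCl.descend {p : ℕ} [Fact p.Prime] (hp : ¬ p ∣ Nat.card H) {π δ : H → ℂ}
    (hπ : IntCl π) (n : ℕ) (hval : ∀ h, ∃ i < n, π h = (p : ℂ) ^ i)
    (hδ : ∀ h, IsIntegral ℤ (δ h)) (hf : IntCl (π * δ)) : IntCl δ := by
  have hp0 : (p : ℂ) ≠ 0 := by exact_mod_cast (Fact.out : p.Prime).ne_zero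
  have hπ0 : ∀ h, π h ≠ 0 := by
    intro h
    obtain ⟨i, -, hi⟩ := hval h
    rw [hi]
    exact pow_ne_zero _ hp0
  have hcl : IsClassFunction H δ := by
    intro a b
    have h1 := hf.1 a b
    simp only [Pi.mul_apply] at h1
    rw [hπ.1 a b] at h1
    exact mul_left_cancel₀ (hπ0 a) h1
  -- the annihilating polynomial
  let m : Polynomial ℤ := ∏ i ∈ Finset.range n, (Polynomial.X - Polynomial.C ((p : ℤ) ^ i))
  have hm : ∀ h, Polynomial.aeval (π h) m = 0 := by
    intro h
    obtain ⟨i, hi, hi'⟩ := hval h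
    rw [map_prod]
    refine Finset.prod_eq_zero (Finset.mem_range.2 hi) ?_
    rw [map_sub, Polynomial.aeval_X, Polynomial.aeval_C, hi']
    simp
  have hm0 : m.coeff 0 = ∏ i ∈ Finset.range n, (-((p : ℤ) ^ i)) := by
    rw [Polynomial.coeff_zero_eq_eval_zero, Polynomial.eval_prod]
    refine Finset.prod_congr rfl (fun i _ => ?_)
    simp
  obtain ⟨c, hc⟩ : ∃ c : ℤ, c = m.coeff 0 := ⟨_, rfl⟩
  have hcop : IsCoprime (Nat.card H : ℤ) c := by
    rw [hc, hm0]
    refine IsCoprime.prod_right (fun i _ => ?_)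
    rw [IsCoprime.neg_right_iff]
    refine IsCoprime.pow_right ?_
    rw [Nat.isCoprime_iff_coprime]
    exact Nat.Coprime.symm ((Nat.Prime.coprime_iff_not_dvd Fact.out).2 hp)
  have hcδ : (c : ℂ) • δ = (fun h => Polynomial.aeval (π h) (-m.divX)) * (π * δ) := by
    funext h
    have h1 : Polynomial.aeval (π h) m = Polynomial.aeval (π h) m.divX * π h + (c : ℂ) := by
      conv_lhs => rw [← Polynomial.divX_mul_X_add m]
      rw [map_add, map_mul, Polynomial.aeval_X, Polynomial.aeval_C, hc]
      rfl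
    rw [hm] at h1
    simp only [Pi.smul_apply, Pi.mul_apply, smul_eq_mul, map_neg]
    linear_combination (-δ h) * h1
  have hcI : IntCl ((c : ℂ) • δ) := by
    rw [hcδ]
    exact (hπ.poly _).mul hf
  refine ⟨hcl, fun ψ hψ => ?_⟩
  obtain ⟨a, b, hab⟩ := hcop
  have h1 : IsIntegral ℤ ((c : ℂ) * classInner δ ψ) := by
    rw [← classInner_smul_left]
    exact hcI.2 ψ hψ
  have h2 : IsIntegral ℤ ((Nat.card H : ℂ) * classInner δ ψ) := by
    unfold classInner
    rw [← mul_assoc, mul_inv_cancel₀ (by exact_mod_cast Nat.card_pos.ne'), one_mul]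
    refine IsIntegral.sum _ (fun g _ => (hδ g).mul ?_)
    have := isIntegral_character (isCharacter_conj (isIrr_isCharacter hψ)) g
    exact this
  have h3 : classInner δ ψ = (a : ℂ) * ((Nat.card H : ℂ) * classInner δ ψ) +
      (b : ℂ) * ((c : ℂ) * classInner δ ψ) := by
    have h4 : (a : ℂ) * (Nat.card H : ℂ) + (b : ℂ) * (c : ℂ) = 1 := by
      exact_mod_cast hab
    linear_combination (-classInner δ ψ) * h4
  rw [h3]
  exact ((isIntegral_algebraMap (R := ℤ) (x := a)).mul h2).add
    ((isIntegral_algebraMap (R := ℤ) (x := b)).mul h1)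

end

end Cfsg.Agent.H718
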