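import Cfsg.Agent.H718.Descent

/-!
# Fixed points and commutators of an element in a coprime module
-/

set_option autoImplicit false
set_option linter.unusedSectionVars false

open scoped ComplexConjugate

namespace Cfsg.Agent.H718

open Cfsg Cfsg.Agent.Characters.Core Cfsg.Agent.Blocks.Local

section

variable {p : ℕ} [Fact p.Prime] {H : Type*} [Group H] [Fintype H] {S : Type*} [AddCommGroup S]
  [Module (ZMod p) S] [Finite S] (ρ : Representation (ZMod p) H S)

theorem rho_mul (g h : H) (x : S) : ρ (g * h) x = ρ g (ρ h x) := by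
  rw [map_mul]; rfl

theorem rho_one (x : S) : ρ 1 x = x := by
  rw [map_one]; rfl

theorem rho_inv_self (h : H) (x : S) : ρ h⁻¹ (ρ h x) = x := by
  rw [← rho_mul, inv_mul_cancel, rho_one]

theorem rho_self_inv (h : H) (x : S) : ρ h (ρ h⁻¹ x) = x := by
  rw [← rho_mul, mul_inv_cancel, rho_one]

/-- the fixed points -/
def Cfix (h : H) : Submodule (ZMod p) S := LinearMap.ker (LinearMap.id - ρ h)

/-- the commutators -/
def Kran (h : H) : Submodule (ZMod p) S := LinearMap.range (LinearMap.id - ρ h)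

theorem mem_Cfix {h : H} {x : S} : x ∈ Cfix ρ h ↔ ρ h x = x := by
  unfold Cfix
  rw [LinearMap.mem_ker, LinearMap.sub_apply, LinearMap.id_apply, sub_eq_zero, eq_comm]

theorem mem_Kran {h : H} {x : S} : x ∈ Kran ρ h ↔ ∃ u, u - ρ h u = x := by
  unfold Kran
  rw [LinearMap.mem_range]
  rfl

theorem sub_mem_Kran (h : H) (u : S) : u - ρ h u ∈ Kran ρ h := (mem_Kran ρ).2 ⟨u, rfl⟩

theorem Kran_one : Kran ρ 1 = ⊥ := by
  rw [eq_bot_iff]
  intro x hx
  obtain ⟨u, rfl⟩ := (mem_Kran ρ).1 hx
  rw [rho_one, sub_self]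
  exact Submodule.zero_mem _

theorem Cfix_one : Cfix ρ 1 = ⊤ := by
  rw [eq_top_iff]
  intro x _
  rw [mem_Cfix, rho_one]

theorem card_submodule (N : Submodule (ZMod p) S) :
    Nat.card N = p ^ Module.finrank (ZMod p) N := by
  have : Module.Finite (ZMod p) S := Module.Finite.of_finite
  have := Module.natCard_eq_pow_finrank (K := ZMod p) (V := N)
  rw [this, Nat.card_zmod]

theorem card_mul (h : H) : Nat.card (Cfix ρ h) * Nat.card (Kran ρ h) = Nat.card S := by
  have : Module.Finite (ZMod p) S := Module.Finite.of_finite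
  have h1 := LinearMap.finrank_range_add_finrank_ker (LinearMap.id - ρ h)
  have h2 : Nat.card S = p ^ Module.finrank (ZMod p) S := by
    rw [Module.natCard_eq_pow_finrank (K := ZMod p) (V := S), Nat.card_zmod]
  rw [card_submodule, card_submodule, h2, ← pow_add, add_comm]
  congr 1

theorem sum_pow_rho (h : H) (u : S) (n : ℕ) :
    ∑ i ∈ Finset.range n, ρ (h ^ i) (u - ρ h u) = u - ρ (h ^ n) u := by
  induction n with
  | zero => simp [rho_one]
  | succ n ih =>
    rw [Finset.sum_range_succ, ih, map_sub, ← rho_mul, ← pow_succ]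
    abel

theorem isCompl_fix (hp : ¬ p ∣ Nat.card H) (h : H) : IsCompl (Cfix ρ h) (Kran ρ h) := by
  have : Module.Finite (ZMod p) S := Module.Finite.of_finite
  have hd : Disjoint (Cfix ρ h) (Kran ρ h) := by
    rw [Submodule.disjoint_def]
    intro x hx hx'
    rw [mem_Cfix] at hx
    obtain ⟨u, hu⟩ := (mem_Kran ρ).1 hx'
    have h1 := sum_pow_rho ρ h u (orderOf h)
    rw [pow_orderOf_eq_one, rho_one, sub_self, hu] at h1
    have h2 : ∀ i : ℕ, ρ (h ^ i) x = x := by
      intro i
      induction i with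
      | zero => rw [pow_zero, rho_one]
      | succ n ih => rw [pow_succ, rho_mul, hx, ih]
    simp only [h2] at h1
    rw [Finset.sum_const, Finset.card_range, ← Nat.cast_smul_eq_nsmul (ZMod p)] at h1
    rcases smul_eq_zero.1 h1 with h3 | h3
    · exfalso
      apply hp
      rw [ZMod.natCast_eq_zero_iff] at h3
      exact h3.trans (Nat.card_eq_fintype_card (α := H) ▸ orderOf_dvd_card)
    · exact h3
  refine ⟨hd, ?_⟩
  rw [codisjoint_iff]
  apply Submodule.eq_top_of_finrank_eq
  have h1 := LinearMap.finrank_range_add_finrank_ker (LinearMap.id - ρ h)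
  have h2 := Submodule.finrank_sup_add_finrank_inf_eq (Cfix ρ h) (Kran ρ h)
  rw [hd.eq_bot, finrank_bot, add_zero] at h2
  rw [h2, add_comm]
  exact h1

theorem exists_add_of_compl (hp : ¬ p ∣ Nat.card H) (h : H) (x : S) :
    ∃ c ∈ Cfix ρ h, ∃ k ∈ Kran ρ h, c + k = x := by
  have h1 := (isCompl_fix ρ hp h).sup_eq_top
  have h2 : x ∈ Cfix ρ h ⊔ Kran ρ h := h1 ▸ Submodule.mem_top
  exact Submodule.mem_sup.1 h2

/-- the permutation character on an invariant subset -/
theorem isCharacter_fix (P : S → Prop) (hP : ∀ h x, P x → P (ρ h x)) :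
    IsCharacter H (fun h => (Nat.card {x : S // P x ∧ ρ h x = x} : ℂ)) := by
  let act : MulAction H {x : S // P x} :=
    { smul := fun h x => ⟨ρ h x, hP h x x.2⟩
      one_smul := fun x => Subtype.ext (rho_one ρ _)
      mul_smul := fun g h x => Subtype.ext (rho_mul ρ g h _) }
  have h1 := Cfsg.Agent.Blocks.PElements.isCharacter_fixedBy (G := H) (X := {x : S // P x})
  have h2 : (fun h => (Nat.card {x : S // P x ∧ ρ h x = x} : ℂ)) =
      (fun g : H => (Nat.card (MulAction.fixedBy {x : S // P x} g) : ℂ)) := by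
    funext h
    congr 1
    refine Nat.card_congr
      { toFun := fun x => ⟨⟨x.1, x.2.1⟩, Subtype.ext x.2.2⟩
        invFun := fun x => ⟨x.1.1, x.1.2, congrArg Subtype.val x.2⟩
        left_inv := fun x => rfl
        right_inv := fun x => rfl }
  rw [h2]
  exact h1

/-- the permutation character -/
noncomputable def piFix (h : H) : ℂ := (Nat.card (Cfix ρ h) : ℂ)

theorem piFix_eq (h : H) : piFix ρ h = (Nat.card {x : S // ρ h x = x} : ℂ) := by
  unfold piFix
  congr 1
  exact Nat.card_congr (Equiv.subtypeEquivRight (fun x => mem_Cfix ρ))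

theorem intCl_piFix : IntCl (piFix ρ) := by
  have h1 : piFix ρ = (fun h => (Nat.card {x : S // True ∧ ρ h x = x} : ℂ)) := by
    funext h
    rw [piFix_eq]
    congr 1
    exact Nat.card_congr (Equiv.subtypeEquivRight (fun x => by simp))
  rw [h1]
  exact IntCl.of_isCharacter (isCharacter_fix ρ (fun _ => True) (fun _ _ _ => trivial))

theorem piFix_pow (h : H) :
    ∃ i < Module.finrank (ZMod p) S + 1, piFix ρ h = (p : ℂ) ^ i := by
  have : Module.Finite (ZMod p) S := Module.Finite.of_finite
  refine ⟨Module.finrank (ZMod p) (Cfix ρ h), ?_, ?_⟩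
  · exact Nat.lt_succ_of_le (Submodule.finrank_le _)
  · unfold piFix
    rw [card_submodule]
    push_cast
    rfl

theorem piFix_ne_zero (h : H) : piFix ρ h ≠ 0 := by
  unfold piFix
  exact_mod_cast Nat.card_pos.ne'

/-- the descent lemma in our situation -/
theorem intCl_of_piFix_mul (hp : ¬ p ∣ Nat.card H) {δ : H → ℂ} (hδ : ∀ h, IsIntegral ℤ (δ h))
    (hf : IntCl (piFix ρ * δ)) : IntCl δ :=
  IntCl.descend hp (intCl_piFix ρ) _ (piFix_pow ρ) hδ hf

end

end Cfsg.Agent.H718
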