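import Cfsg.Agent.H718.Weil
import Cfsg.Agent.H718.SelfDual
import Cfsg.Agent.S2619

/-!
# `δ` for self-dual coprime modules
-/

set_option autoImplicit false
set_option linter.unusedSectionVars false

open scoped ComplexConjugate

namespace Cfsg.Agent.H718

open Cfsg Cfsg.Agent.Characters.Core Cfsg.Agent.Blocks.Local

section

variable {p : ℕ} [Fact p.Prime] {H : Type*} [Group H] [Fintype H] {S : Type*} [AddCommGroup S]
  [Module (ZMod p) S] [Finite S]

/-- restriction of a representation to an invariant subspace -/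
def restr (ρ : Representation (ZMod p) H S) (U : Submodule (ZMod p) S)
    (hU : SelfDual.Inv ρ U) : Representation (ZMod p) H U where
  toFun h := (ρ h).restrict (hU h)
  map_one' := by
    ext x
    rw [LinearMap.restrict_apply]
    exact rho_one ρ _
  map_mul' g h := by
    ext x
    rw [LinearMap.restrict_apply]
    exact rho_mul ρ g h _

theorem restr_apply (ρ : Representation (ZMod p) H S) (U : Submodule (ZMod p) S)
    (hU : SelfDual.Inv ρ U) (h : H) (x : U) : ((restr ρ U hU h x : U) : S) = ρ h x := rfl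

/-- an invariant alternating form in characteristic two comes from an invariant quadratic form -/
theorem exists_delta_two {M : Ideal AlgInt} (hM : IsPModular p M) (hp : ¬ p ∣ Nat.card H)
    (hp2 : p = 2) (ρ : Representation (ZMod p) H S) (B : LinearMap.BilinForm (ZMod p) S)
    (halt : ∀ x, B x x = 0)
    (hinv : ∀ h x y, B (ρ h x) (ρ h y) = B x y) (hnd : ∀ x, (∀ y, B x y = 0) → x = 0) :
    ∃ δ : H → ℂ, Delta M (fun h s => ρ h s) δ := by
  subst hp2
  obtain ⟨Q, ⟨hQ, -⟩, -⟩ := Cfsg.Agent.S2619.result (Module.finBasis (ZMod 2) S) B halt (fun _ => 0)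
  have hQ' : ∀ x y, Q (x + y) = Q x + Q y + B x y := by
    intro x y
    rw [← hQ, QuadraticMap.polarBilin_apply_apply, QuadraticMap.polar]
    ring
  have h1 : (Nat.card H : ZMod 2) = 1 := by
    rw [ZMod.natCast_eq_one_iff_odd]
    rw [Nat.odd_iff]
    omega
  refine exists_delta_quadratic hM hp ρ (fun x => ∑ h : H, Q (ρ h x)) B ?_ ?_ hnd
  · intro x y
    have h2 : ∀ h : H, Q (ρ h (x + y)) = Q (ρ h x) + Q (ρ h y) + B x y := by
      intro h
      rw [map_add, hQ', hinv]
    rw [Finset.sum_congr rfl (fun h _ => h2 h), Finset.sum_add_distrib, Finset.sum_add_distrib,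
      Finset.sum_const, Finset.card_univ, ← Nat.card_eq_fintype_card, nsmul_eq_mul, h1, one_mul]
  · intro h x
    refine Fintype.sum_equiv (Equiv.mulRight h) _ _ (fun g => ?_)
    show Q (ρ g (ρ h x)) = Q (ρ (g * h) x)
    rw [rho_mul]

theorem exists_delta_selfdual {M : Ideal AlgInt} (hM : IsPModular p M) (hp : ¬ p ∣ Nat.card H)
    (ρ : Representation (ZMod p) H S) (B : LinearMap.BilinForm (ZMod p) S)
    (hinv : ∀ h x y, B (ρ h x) (ρ h y) = B x y) (hnd : ∀ x, (∀ y, B x y = 0) → x = 0) :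
    ∃ δ : H → ℂ, Delta M (fun h s => ρ h s) δ := by
  classical
  have hprime := isPrime_of_isPModular hM
  have : Module.Finite (ZMod p) S := Module.Finite.of_finite
  have hG : (Nat.card H : ZMod p) ≠ 0 := by
    intro h
    exact hp ((ZMod.natCast_eq_zero_iff _ _).1 h)
  obtain ⟨U, W, h⟩ := SelfDual.main ρ p hG B hinv _ ⊤ rfl (fun g x _ => Submodule.mem_top)
    (fun x _ hx => hnd x fun y => hx y Submodule.mem_top)
  have hcompl : IsCompl U W := ⟨h.disj, codisjoint_iff.2 h.sup⟩
  obtain ⟨A, hA⟩ := h.alt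
  obtain ⟨S', hS'⟩ := h.sym
  -- the alternating part
  obtain ⟨δ₁, h₁⟩ : ∃ δ : H → ℂ, Delta M (fun h s => restr ρ U (‹SelfDual.Split ρ p ⊤ U W›).invU h s) δ := by
    have a1 : ∀ x : U, (A.restrict U) x x = 0 := fun x => hA.tau x
    have a2 : ∀ (g : H) (x y : U), (A.restrict U) (restr ρ U h.invU g x) (restr ρ U h.invU g y) =
        (A.restrict U) x y := fun g x y => hA.inv g x x.2 y y.2
    have a3 : ∀ x : U, (∀ y, (A.restrict U) x y = 0) → x = 0 := fun x hx =>
      Subtype.ext (hA.nd x x.2 (fun y hy => hx ⟨y, hy⟩))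
    by_cases hp2 : p = 2
    · exact exists_delta_two hM hp hp2 _ (A.restrict U) a1 a2 a3
    · have : Fintype U := Fintype.ofFinite _
      exact Weil.exists_delta_alternating hM hp hp2 (A.restrict U) a1 a2 a3
  obtain ⟨δ₂, h₂⟩ : ∃ δ : H → ℂ, Delta M (fun h s => restr ρ W ‹SelfDual.Split ρ p ⊤ U W›.invW h s) δ := by
    by_cases hp2 : p = 2
    · exact ⟨1, Delta.of_trivial (fun g x => Subtype.ext (h.triv hp2 g x x.2))⟩
    · have h2 : (2 : ZMod p) ≠ 0 := by
        intro h0
        have h0' : ((2 : ℕ) : ZMod p) = 0 := by exact_mod_cast h0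
        rw [ZMod.natCast_eq_zero_iff] at h0'
        exact hp2 ((Nat.prime_dvd_prime_iff_eq Fact.out Nat.prime_two).1 h0')
      refine exists_delta_quadratic hM hp _ (fun x : W => (2 : ZMod p)⁻¹ * S' x x)
        (S'.restrict W) ?_ ?_ ?_
      · intro x y
        show (2 : ZMod p)⁻¹ * S' ((x : S) + y) ((x : S) + y) = _ + _ + S' x y
        simp only [map_add, LinearMap.add_apply]
        rw [hS'.tau y x]
        field_simp
        ring
      · intro g x
        show (2 : ZMod p)⁻¹ * S' (ρ g x) (ρ g x) = _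
        rw [hS'.inv g x x.2 x x.2]
      · exact fun x hx => Subtype.ext (hS'.nd x x.2 (fun y hy => hx ⟨y, hy⟩))
  refine ⟨δ₁ * δ₂, (Delta.prod hprime h₁ h₂).congr
    (Submodule.prodEquivOfIsCompl U W hcompl).toEquiv (fun g x => ?_)⟩
  show ((restr ρ U h.invU g x.1 : U) : S) + ((restr ρ W h.invW g x.2 : W) : S) =
    ρ g ((x.1 : S) + (x.2 : S))
  rw [map_add]
  rfl

end

end Cfsg.Agent.H718
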