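import Cfsg.Agent.H718.KGVBasic

/-!
# The `δ` criterion for `k(GV) ≤ |V|`

`X = V ⋊ G` with `V` an abelian normal Sylow `p`-subgroup, `v ∈ V`, `H = C_G(v)`.  If `δ` is a
class function on `H` whose inner products with the irreducible characters of `H` are algebraic
integers, `δ 1 = 1`, `δ h ∈ M` for `h ≠ 1` and all conjugates of `δ h` have squared absolute value
at most `|V| / |C_V(h)|`, then `X` has at most `|V|` conjugacy classes.
-/

set_option autoImplicit false
set_option linter.unusedSectionVars false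

open scoped ComplexConjugate

namespace Cfsg.Agent.H718

open Cfsg Cfsg.Agent.Characters.Core Cfsg.Agent.Blocks.Local

/-- Commuting pairs: `∑ h, |C_H(h)| = |H| k(H)`, for a subgroup `H` of `X`. -/
theorem sum_card_centralizer {X : Type*} [Group X] [Finite X] (H : Subgroup X) [Fintype H] :
    ∑ h : H, Nat.card ↥(H ⊓ Subgroup.centralizer ({(h : X)} : Set X)) =
      Nat.card (ConjClasses H) * Nat.card H := by
  classical
  rw [← card_comm_eq_card_conjClasses_mul_card]
  have e : {q : H × H // Commute q.1 q.2} ≃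
      Σ h : H, ↥(H ⊓ Subgroup.centralizer ({(h : X)} : Set X)) :=
    { toFun := fun q => ⟨q.1.1, ⟨(q.1.2 : X), q.1.2.2,
        Subgroup.mem_centralizer_singleton_iff.2 (congrArg (Subtype.val) q.2.eq.symm)⟩⟩
      invFun := fun q => ⟨(q.1, ⟨(q.2 : X), q.2.2.1⟩),
        Subtype.ext (Subgroup.mem_centralizer_singleton_iff.1 q.2.2.2).symm⟩
      left_inv := fun q => rfl
      right_inv := fun q => rfl }
  rw [Nat.card_congr e, Nat.card_sigma]

section Delta

variable {X : Type*} [Group X] [Finite X] {p : ℕ} [Fact p.Prime] {V : Subgroup X} [V.Normal]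

/-- The coefficient `|H|⁻¹ ∑ h, χ (v h) δ h conj (φ h)`. -/
noncomputable def cf (H : Subgroup X) [Fintype H] (v : X) (δ : H → ℂ) (χ : X → ℂ) (φ : H → ℂ) : ℂ :=
  (Nat.card H : ℂ)⁻¹ * ∑ h : H, χ (v * h) * δ h * conj (φ h)

theorem cf_eq_classInner (H : Subgroup X) [Fintype H] (v : X) (δ : H → ℂ) (χ : X → ℂ)
    (φ : H → ℂ) : cf H v δ χ φ = classInner (fun h : H => χ (v * h) * δ h) φ := rfl

theorem isIntegral_cf (H : Subgroup X) [Fintype H] (v : X) (hv : ∀ h ∈ H, v * h = h * v)
    {δ : H → ℂ} (hδcl : IsClassFunction H δ)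
    (hδint : ∀ ψ : H → ℂ, IsIrrCharacter H ψ → IsIntegral ℤ (classInner δ ψ))
    {χ : X → ℂ} (hχ : IsCharacter X χ) {φ : H → ℂ} (hφ : IsCharacter H φ) :
    IsIntegral ℤ (cf H v δ χ φ) := by
  classical
  have : Finite (IrrCharacter H) := finite_irr
  have : Fintype (IrrCharacter H) := Fintype.ofFinite _
  have hexp := classFunction_eq_sum hδcl
  have h1 : cf H v δ χ φ = ∑ ψ : IrrCharacter H, classInner δ (ψ : H → ℂ) *
      ((Nat.card H : ℂ)⁻¹ * ∑ h : H, χ (v * h) * ((ψ : H → ℂ) * fun h => conj (φ h)) h) := by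
    unfold cf
    have h2 : ∀ h : H, δ h = ∑ ψ : IrrCharacter H, classInner δ (ψ : H → ℂ) * (ψ : H → ℂ) h := by
      intro h
      conv_lhs => rw [hexp]
      simp [Finset.sum_apply]
    have h3 : ∀ h : H, χ (v * h) * δ h * conj (φ h) = ∑ ψ : IrrCharacter H,
        classInner δ (ψ : H → ℂ) * (χ (v * h) * ((ψ : H → ℂ) h * conj (φ h))) := by
      intro h
      rw [h2, Finset.mul_sum, Finset.sum_mul]
      exact Finset.sum_congr rfl (fun ψ _ => by ring)
    simp_rw [h3]
    rw [Finset.sum_comm, Finset.mul_sum]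
    refine Finset.sum_congr rfl (fun ψ _ => ?_)
    rw [← Finset.mul_sum]
    simp only [Pi.mul_apply]
    ring
  rw [h1]
  refine IsIntegral.sum _ (fun ψ _ => ?_)
  refine (hδint ψ ψ.2).mul ?_
  exact isIntegral_avg_twisted H v hv hχ
    (isCharacter_mul (isIrr_isCharacter ψ.2) (isCharacter_conj hφ))

theorem conj_mem_Cyc {n : ℕ} {z : ℂ} (hz : z ∈ Cyc n) : conj z ∈ Cyc n := by
  by_cases hn : n = 0
  · subst hn
    apply mem_Cyc_of_pow
    exact pow_zero _
  · refine IntermediateField.adjoin_induction (p := fun z _ => conj z ∈ Cyc n) ℚ ?_ ?_ ?_ ?_ ?_ hz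
    · intro x hx
      apply mem_Cyc_of_pow
      have hx' : x ^ n = 1 := hx
      rw [← map_pow, hx', map_one]
    · intro q
      have : conj (algebraMap ℚ ℂ q) = algebraMap ℚ ℂ q := by simp
      rw [this]
      exact (Cyc n).algebraMap_mem q
    · intro x y _ _ hx hy
      rw [map_add]
      exact add_mem hx hy
    · intro x _ hx
      rw [map_inv₀]
      exact inv_mem hx
    · intro x y _ _ hx hy
      rw [map_mul]
      exact mul_mem hx hy

theorem cf_mem_Cyc (H : Subgroup X) [Fintype H] (v : X) {n : ℕ} (hn : n ≠ 0)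
    (hdvd : Nat.card X ∣ n) {δ : H → ℂ} (hδ : ∀ h, δ h ∈ Cyc n)
    {χ : X → ℂ} (hχ : IsCharacter X χ) {φ : H → ℂ} (hφ : IsCharacter H φ) :
    cf H v δ χ φ ∈ Cyc n := by
  have hdvd' : Nat.card H ∣ n := (Subgroup.card_subgroup_dvd_card H).trans hdvd
  refine mul_mem (inv_mem (natCast_mem _ _)) (sum_mem (fun h _ => ?_))
  exact mul_mem (mul_mem (character_mem_Cyc hχ hn hdvd _) (hδ h))
    (conj_mem_Cyc (character_mem_Cyc hφ hn hdvd' _))

/-- **The `δ` criterion.** -/
theorem card_conjClasses_le_of_delta (hVp : IsPGroup p V) (hidx : ¬ p ∣ V.index)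
    (hab : ∀ a ∈ V, ∀ b ∈ V, a * b = b * a) (G : Subgroup X) (hGV : Subgroup.IsComplement' V G)
    {v : X} (hv : v ∈ V) (H : Subgroup X) (hH : H = G ⊓ Subgroup.centralizer ({v} : Set X))
    [Fintype H] {M : Ideal AlgInt} (hM : IsPModular p M) {n : ℕ} (hn : n ≠ 0)
    (hdvd : Nat.card X ∣ n)
    (δ : H → ℂ) (hδcl : IsClassFunction H δ)
    (hδint : ∀ ψ : H → ℂ, IsIrrCharacter H ψ → IsIntegral ℤ (classInner δ ψ))
    (hδmem : ∀ h, δ h ∈ Cyc n) (hδ1 : δ 1 = 1) (hδM : ∀ h, h ≠ 1 → MemLocalIdeal M (δ h))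
    (hδabs : ∀ (σ : ℂ ≃+* ℂ) (h : H), ‖σ (δ h)‖ ^ 2 *
      Nat.card ↥(V ⊓ Subgroup.centralizer ({(h : X)} : Set X)) ≤ Nat.card V) :
    Nat.card (ConjClasses X) ≤ Nat.card V := by
  classical
  have hprime := isPrime_of_isPModular hM
  have hGidx : V.index = Nat.card G := hGV.symm.index_eq_card
  have hG : ¬ p ∣ Nat.card G := hGidx ▸ hidx
  have hHG : H ≤ G := hH ▸ inf_le_left
  have hHcard : ¬ p ∣ Nat.card H := fun h => hG (h.trans (Subgroup.card_dvd_of_le hHG))
  have hvH : ∀ h ∈ H, v * h = h * v := by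
    intro h hh
    rw [hH] at hh
    exact (Subgroup.mem_centralizer_singleton_iff.1 hh.2).symm
  have : Finite (IrrCharacter X) := finite_irr
  have : Finite (IrrCharacter H) := finite_irr
  have : Fintype (IrrCharacter X) := Fintype.ofFinite _
  have : Fintype (IrrCharacter H) := Fintype.ofFinite _
  obtain ⟨ι, _, _, σ, hσ⟩ := exists_galois_avg n hn
  -- nonvanishing of the coefficients
  have hne : ∀ (χ : IrrCharacter X) (φ : IrrCharacter H), cf H v δ χ φ ≠ 0 := by
    intro χ φ h0
    have hcard0 : (Nat.card H : ℂ) ≠ 0 := by exact_mod_cast Nat.card_pos.ne'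
    have h1 : ∑ h : H, (χ : X → ℂ) (v * h) * δ h * conj ((φ : H → ℂ) h) = 0 := by
      have := h0
      unfold cf at this
      rcases mul_eq_zero.1 this with h | h
      · exact absurd h (inv_ne_zero hcard0)
      · exact h
    rw [← Finset.add_sum_erase _ _ (Finset.mem_univ (1 : H))] at h1
    have hrest : MemLocalIdeal M (∑ h ∈ Finset.univ.erase (1 : H),
        (χ : X → ℂ) (v * h) * δ h * conj ((φ : H → ℂ) h)) := by
      refine memLocalIdeal_sum (fun h hh => ?_)
      have hh1 : h ≠ 1 := Finset.ne_of_mem_erase hh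
      refine memLocalIdeal_mul_right (memLocalIdeal_mul_left ?_ (hδM h hh1)) ?_
      · exact memLocalRing_of_isIntegral (isIntegral_character (isIrr_isCharacter χ.2) _)
      · exact memLocalRing_of_isIntegral
          (isIntegral_character (isCharacter_conj (isIrr_isCharacter φ.2)) _)
    have hfirst : MemLocalIdeal M ((χ : X → ℂ) (v * (1 : H)) * δ 1 * conj ((φ : H → ℂ) 1)) := by
      have h2 : (χ : X → ℂ) (v * (1 : H)) * δ 1 * conj ((φ : H → ℂ) 1) =
          -(∑ h ∈ Finset.univ.erase (1 : H),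
            (χ : X → ℂ) (v * h) * δ h * conj ((φ : H → ℂ) h)) := by
        linear_combination h1
      rw [h2]
      exact memLocalIdeal_neg hrest
    obtain ⟨n', ρ, hirr, hρ⟩ := φ.2
    have hirr' := hirr
    have hdeg : ∃ e : ℕ, (φ : H → ℂ) 1 = e ∧ ¬ p ∣ e := by
      refine ⟨Module.finrank ℂ (Fin n' → ℂ), ?_, ?_⟩
      · rw [← hρ, Representation.char_one]
      · intro h
        have hd := Cfsg.Agent.Characters.Ito.finrank_dvd_index ρ (⊥ : Subgroup H)
          (fun a ha b hb => by
            rw [Subgroup.mem_bot.1 ha, Subgroup.mem_bot.1 hb])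
        rw [Subgroup.index_bot] at hd
        exact hHcard (h.trans hd)
    obtain ⟨e, he, hpe⟩ := hdeg
    rw [hδ1, he, Subgroup.coe_one, mul_one, mul_one, Complex.conj_natCast] at hfirst
    -- `χ v * e` is a unit
    have hχv := not_memLocalIdeal_apply hM hVp hidx hab χ hv
    have he' := not_memLocalIdeal_natCast (M := M) hM hpe
    rcases memLocalIdeal_or_of_mul (M := M)
      (memLocalRing_of_isIntegral (isIntegral_character (isIrr_isCharacter χ.2) v))
      (memLocalRing_natCast e) hfirst with h | h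
    · exact hχv h
    · exact he' h
  -- lower bound
  have hlow : ∀ (χ : IrrCharacter X) (φ : IrrCharacter H),
      (Fintype.card ι : ℝ) ≤ ∑ i, ‖σ i (cf H v δ χ φ)‖ ^ 2 := fun χ φ =>
    hσ _ (isIntegral_cf H v hvH hδcl hδint (isIrr_isCharacter χ.2) (isIrr_isCharacter φ.2))
      (cf_mem_Cyc H v hn hdvd hδmem (isIrr_isCharacter χ.2) (isIrr_isCharacter φ.2)) (hne χ φ)
  -- upper bound, for a fixed automorphism
  have hup : ∀ τ : ℂ ≃+* ℂ, ∑ χ : IrrCharacter X, ∑ φ : IrrCharacter H,
      ‖τ (cf H v δ χ φ)‖ ^ 2 ≤ (Nat.card V : ℝ) * Nat.card (ConjClasses H) := by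
    intro τ
    have hH0 : (0 : ℝ) < Nat.card H := by exact_mod_cast Nat.card_pos
    -- for one `χ`
    have h1 : ∀ χ : IrrCharacter X, ∑ φ : IrrCharacter H, ‖τ (cf H v δ χ φ)‖ ^ 2 =
        (Nat.card H : ℝ)⁻¹ * ∑ h : H, ‖τ ((χ : X → ℂ) (v * h))‖ ^ 2 * ‖τ (δ h)‖ ^ 2 := by
      intro χ
      set F : H → ℂ := fun h => τ ((χ : X → ℂ) (v * h)) * τ (δ h) with hF
      have hFcl : IsClassFunction H F := by
        intro g h
        simp only [hF]
        have e1 : (χ : X → ℂ) (v * ((h * g * h⁻¹ : H) : X)) = (χ : X → ℂ) (v * (g : X)) := by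
          have e2 : v * ((h * g * h⁻¹ : H) : X) = (h : X) * (v * g) * (h : X)⁻¹ := by
            have := hvH h h.2
            push_cast
            rw [← mul_assoc, ← mul_assoc, ← mul_assoc, this]
          rw [e2]
          exact (isIrr_isClassFunction χ.2) (v * g) h
        rw [e1, hδcl g h]
      have h2 : ∀ φ : IrrCharacter H, τ (cf H v δ χ φ) = classInner F (galIrr τ φ : H → ℂ) := by
        intro φ
        rw [cf, map_mul, map_inv₀, map_natCast, map_sum]
        show _ = (Nat.card H : ℂ)⁻¹ * ∑ h : H, F h * conj ((galIrr τ φ : H → ℂ) h)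
        congr 1
        refine Finset.sum_congr rfl (fun h _ => ?_)
        rw [map_mul, map_mul]
        congr 1
        rw [← isCharacter_apply_inv (isIrr_isCharacter φ.2) h,
          ← isCharacter_apply_inv (isIrr_isCharacter (galIrr τ φ).2) h, galIrr_apply]
      have h3 : ∑ φ : IrrCharacter H, ‖τ (cf H v δ χ φ)‖ ^ 2 =
          ∑ φ : IrrCharacter H, ‖classInner F (φ : H → ℂ)‖ ^ 2 := by
        simp_rw [h2]
        exact Function.Bijective.sum_comp (galIrr_bijective (X := H) τ)
          (fun φ : IrrCharacter H => ‖classInner F (φ : H → ℂ)‖ ^ 2)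
      rw [h3]
      have h4 := classInner_eq_sum hFcl hFcl
      have h5 : (((∑ φ : IrrCharacter H, ‖classInner F (φ : H → ℂ)‖ ^ 2 : ℝ)) : ℂ) =
          classInner F F := by
        rw [h4]
        push_cast
        refine Finset.sum_congr rfl (fun φ _ => ?_)
        rw [Complex.mul_conj, Complex.normSq_eq_norm_sq]
        push_cast
        rfl
      rw [classInner_self_eq_ofReal] at h5
      have h6 := Complex.ofReal_injective h5
      rw [h6]
      congr 1
      refine Finset.sum_congr rfl (fun h _ => ?_)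
      rw [Complex.normSq_eq_norm_sq, hF]
      simp only
      rw [norm_mul, mul_pow]
    calc ∑ χ : IrrCharacter X, ∑ φ : IrrCharacter H, ‖τ (cf H v δ χ φ)‖ ^ 2
        = (Nat.card H : ℝ)⁻¹ * ∑ h : H, (∑ χ : IrrCharacter X, ‖τ ((χ : X → ℂ) (v * h))‖ ^ 2) *
            ‖τ (δ h)‖ ^ 2 := by
          simp_rw [h1]
          rw [← Finset.mul_sum, Finset.sum_comm]
          congr 1
          refine Finset.sum_congr rfl (fun h _ => ?_)
          rw [Finset.sum_mul]
      _ ≤ (Nat.card H : ℝ)⁻¹ * ∑ h : H, (Nat.card V : ℝ) *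
            Nat.card ↥(H ⊓ Subgroup.centralizer ({(h : X)} : Set X)) := by
          refine mul_le_mul_of_nonneg_left (Finset.sum_le_sum (fun h _ => ?_))
            (inv_nonneg.2 hH0.le)
          have e1 := sum_norm_sq_gal_le τ (v * (h : X))
          have e2 := card_centralizer_mul_le hVp hab hG hGV hv (hHG h.2) (hvH h h.2)
          rw [← hH] at e2
          have e3 := hδabs τ h
          calc (∑ χ : IrrCharacter X, ‖τ ((χ : X → ℂ) (v * h))‖ ^ 2) * ‖τ (δ h)‖ ^ 2
              ≤ (Nat.card ↥(V ⊓ Subgroup.centralizer ({(h : X)} : Set X)) *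
                  Nat.card ↥(H ⊓ Subgroup.centralizer ({(h : X)} : Set X))) *
                    ‖τ (δ h)‖ ^ 2 := by
                refine mul_le_mul_of_nonneg_right (e1.trans ?_) (by positivity)
                exact_mod_cast e2
            _ = (‖τ (δ h)‖ ^ 2 * Nat.card ↥(V ⊓ Subgroup.centralizer ({(h : X)} : Set X))) *
                  Nat.card ↥(H ⊓ Subgroup.centralizer ({(h : X)} : Set X)) := by ring
            _ ≤ _ := mul_le_mul_of_nonneg_right e3 (by positivity)
      _ = (Nat.card V : ℝ) * Nat.card (ConjClasses H) := by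
          rw [← Finset.mul_sum]
          have e1 := sum_card_centralizer H
          have e2 : ∑ h : H, (Nat.card ↥(H ⊓ Subgroup.centralizer ({(h : X)} : Set X)) : ℝ) =
              (Nat.card (ConjClasses H) : ℝ) * Nat.card H := by exact_mod_cast e1
          rw [e2]
          field_simp
  -- conclusion
  have hι : (0 : ℝ) < Fintype.card ι := by exact_mod_cast Fintype.card_pos
  have hkH : (0 : ℝ) < Nat.card (ConjClasses H) := by
    have : 0 < Nat.card (ConjClasses H) := Nat.card_pos
    exact_mod_cast this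
  have htot : (Fintype.card ι : ℝ) * ((Nat.card (ConjClasses X) : ℝ) *
      Nat.card (ConjClasses H)) ≤
        (Fintype.card ι : ℝ) * ((Nat.card V : ℝ) * Nat.card (ConjClasses H)) := by
    calc (Fintype.card ι : ℝ) * ((Nat.card (ConjClasses X) : ℝ) * Nat.card (ConjClasses H))
        = ∑ _χ : IrrCharacter X, ∑ _φ : IrrCharacter H, (Fintype.card ι : ℝ) := by
          rw [Finset.sum_const, Finset.sum_const, Finset.card_univ, Finset.card_univ,
            nsmul_eq_mul, nsmul_eq_mul, ← card_irr (G := X), ← card_irr (G := H),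
            Nat.card_eq_fintype_card, Nat.card_eq_fintype_card]
          ring
      _ ≤ ∑ χ : IrrCharacter X, ∑ φ : IrrCharacter H, ∑ i, ‖σ i (cf H v δ χ φ)‖ ^ 2 :=
          Finset.sum_le_sum (fun χ _ => Finset.sum_le_sum (fun φ _ => hlow χ φ))
      _ = ∑ i, ∑ χ : IrrCharacter X, ∑ φ : IrrCharacter H, ‖σ i (cf H v δ χ φ)‖ ^ 2 := by
          rw [Finset.sum_congr rfl (fun (χ : IrrCharacter X) _ => Finset.sum_comm
            (s := (Finset.univ : Finset (IrrCharacter H))) (t := (Finset.univ : Finset ι))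
            (f := fun φ i => ‖σ i (cf H v δ χ φ)‖ ^ 2)), Finset.sum_comm]
      _ ≤ ∑ _i : ι, (Nat.card V : ℝ) * Nat.card (ConjClasses H) :=
          Finset.sum_le_sum (fun i _ => hup (σ i))
      _ = _ := by rw [Finset.sum_const, Finset.card_univ, nsmul_eq_mul]
  have h1 := le_of_mul_le_mul_left htot hι
  have h2 := le_of_mul_le_mul_right h1 hkH
  exact_mod_cast h2

end Delta

end Cfsg.Agent.H718
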