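import Mathlib

/-!
# A counting lemma on quadratic polynomials over a prime field
-/

set_option autoImplicit false

namespace Cfsg.Agent.H718.QuadCount

theorem card_eq {p : ℕ} [Fact p.Prime] (hp : p ≠ 2) (J : Finset (ZMod p)) {g : ZMod p} (hg : g ≠ 0)
    (A : ZMod p) :
    ((Finset.univ.filter fun j : ZMod p => A + g * j ^ 2 ∈ J).card : ℤ) =
      J.card + ∑ x ∈ J, quadraticChar (ZMod p) (g * (x - A)) := by
  have hF : ringChar (ZMod p) ≠ 2 := by rwa [ZMod.ringChar_zmod_n]
  have h1 : (Finset.univ.filter fun j : ZMod p => A + g * j ^ 2 ∈ J).card =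
      ∑ x ∈ J, ((Finset.univ.filter fun j : ZMod p => A + g * j ^ 2 ∈ J).filter
        fun j => A + g * j ^ 2 = x).card :=
    Finset.card_eq_sum_card_fiberwise (fun j hj => (Finset.mem_filter.1 hj).2)
  rw [h1, Nat.cast_sum, Finset.card_eq_sum_ones, Nat.cast_sum, ← Finset.sum_add_distrib]
  refine Finset.sum_congr rfl fun x hx => ?_
  have h2 : (Finset.univ.filter fun j : ZMod p => A + g * j ^ 2 ∈ J).filter
      (fun j => A + g * j ^ 2 = x) = {j : ZMod p | j ^ 2 = (x - A) / g}.toFinset := by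
    ext j
    simp only [Finset.mem_filter, Finset.mem_univ, true_and, Set.mem_toFinset, Set.mem_setOf_eq]
    constructor
    · rintro ⟨-, h3⟩
      rw [eq_div_iff hg, ← h3]; ring
    · intro h3
      have h4 : A + g * j ^ 2 = x := by rw [h3]; field_simp; ring
      exact ⟨by rw [h4]; exact hx, h4⟩
  rw [h2, quadraticChar_card_sqrts hF]
  have h3 : g * (x - A) = (x - A) / g * g ^ 2 := by field_simp
  rw [h3, map_mul, quadraticChar_sq_one' hg, mul_one, Nat.cast_one, add_comm]

theorem quad_count {p : ℕ} [Fact p.Prime] (hp : p ≠ 2) (J : Finset (ZMod p)) (h0 : 0 ∈ J)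
    (h : ∀ g : ZMod p, g ≠ 0 → ∀ A : ZMod p,
      2 ≤ (Finset.univ.filter fun j : ZMod p => A + g * j ^ 2 ∈ J).card →
      (Finset.univ.filter fun j : ZMod p => A + g * j ^ 2 ∈ J).card = J.card + 1) : J = {0} := by
  have hF : ringChar (ZMod p) ≠ 2 := by rwa [ZMod.ringChar_zmod_n]
  obtain ⟨r, hr⟩ := quadraticChar_exists_neg_one (F := ZMod p) hF
  have hr0 : r ≠ 0 := by
    rintro rfl
    rw [quadraticChar_zero] at hr
    norm_num at hr
  have key : ∀ A : ZMod p, J.card = 1 ∨ (J.card = 2 ∧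
      (∑ x ∈ J, quadraticChar (ZMod p) (x - A) = 1 ∨ ∑ x ∈ J, quadraticChar (ZMod p) (x - A) = -1)) := by
    intro A
    have e1 := card_eq hp J one_ne_zero A
    have e2 := card_eq hp J hr0 A
    have e3 : ∑ x ∈ J, quadraticChar (ZMod p) (1 * (x - A)) = ∑ x ∈ J, quadraticChar (ZMod p) (x - A) := by
      simp
    have e4 : ∑ x ∈ J, quadraticChar (ZMod p) (r * (x - A)) = -∑ x ∈ J, quadraticChar (ZMod p) (x - A) := by
      rw [← Finset.sum_neg_distrib]
      refine Finset.sum_congr rfl fun x _ => ?_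
      rw [map_mul, hr]; ring
    rw [e3] at e1
    rw [e4] at e2
    have f1 := h 1 one_ne_zero A
    have f2 := h r hr0 A
    have hpos : 1 ≤ J.card := Finset.card_pos.2 ⟨0, h0⟩
    generalize (Finset.univ.filter fun j : ZMod p => A + 1 * j ^ 2 ∈ J).card = n1 at e1 f1
    generalize (Finset.univ.filter fun j : ZMod p => A + r * j ^ 2 ∈ J).card = n2 at e2 f2
    generalize (∑ x ∈ J, quadraticChar (ZMod p) (x - A)) = S at e1 e2 ⊢
    by_cases g1 : 2 ≤ n1 <;> by_cases g2 : 2 ≤ n2
    · have := f1 g1; have := f2 g2; omega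
    · have := f1 g1; omega
    · have := f2 g2; omega
    · omega
  have h1 : J.card = 1 := by
    rcases key 0 with h1 | ⟨h2, -⟩
    · exact h1
    exfalso
    obtain ⟨a, b, hab, hJ⟩ := Finset.card_eq_two.1 h2
    obtain ⟨A, hA⟩ : ∃ A : ZMod p, A ∉ J := by
      by_contra hn
      push_neg at hn
      have h3 : J = Finset.univ := Finset.eq_univ_iff_forall.2 hn
      rw [h3, Finset.card_univ, ZMod.card] at h2
      exact hp h2
    rcases key A with h3 | ⟨-, h3⟩
    · omega
    rw [hJ] at h3 hA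
    rw [Finset.sum_pair hab] at h3
    rw [Finset.mem_insert, Finset.mem_singleton, not_or] at hA
    have ha := quadraticChar_dichotomy (F := ZMod p) (a := a - A) (sub_ne_zero.2 (Ne.symm hA.1))
    have hb := quadraticChar_dichotomy (F := ZMod p) (a := b - A) (sub_ne_zero.2 (Ne.symm hA.2))
    rcases ha with ha | ha <;> rcases hb with hb | hb <;> rw [ha, hb] at h3 <;> norm_num at h3
  obtain ⟨a, ha⟩ := Finset.card_eq_one.1 h1
  rw [ha] at h0 ⊢
  rw [Finset.mem_singleton.1 h0]

end Cfsg.Agent.H718.QuadCount
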