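import Cfsg.Agent.H718.Fix
import Cfsg.Agent.Blocks.Twist

/-!
# `δ` for an invariant nondegenerate quadratic form: Gauss sums over the commutator spaces
-/

set_option autoImplicit false
set_option linter.unusedSectionVars false

open scoped ComplexConjugate

namespace Cfsg.Agent.H718

open Cfsg Cfsg.Agent.Characters.Core Cfsg.Agent.Blocks.Local

section

variable {p : ℕ} [Fact p.Prime] {S : Type*} [AddCommGroup S] [Module (ZMod p) S] [Finite S]

/-- The sum of the values on a subspace. -/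
noncomputable def gs (f : S → ℂ) (N : Submodule (ZMod p) S) : ℂ := ∑ᶠ x : N, f x

theorem gs_eq_sum (f : S → ℂ) (N : Submodule (ZMod p) S) [Fintype N] : gs f N = ∑ x : N, f x := by
  unfold gs
  exact finsum_eq_sum_of_fintype _

theorem gs_bot (f : S → ℂ) : gs f (⊥ : Submodule (ZMod p) S) = f 0 := by
  have : Fintype (⊥ : Submodule (ZMod p) S) := Fintype.ofFinite _
  rw [gs_eq_sum, Fintype.sum_unique]
  rfl

theorem map_gs (σ : ℂ ≃+* ℂ) (f : S → ℂ) (N : Submodule (ZMod p) S) :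
    σ (gs f N) = gs (fun x => σ (f x)) N := by
  have : Fintype N := Fintype.ofFinite _
  rw [gs_eq_sum, gs_eq_sum, map_sum]

theorem conj_gs (f : S → ℂ) (N : Submodule (ZMod p) S) :
    conj (gs f N) = gs (fun x => conj (f x)) N := by
  have : Fintype N := Fintype.ofFinite _
  rw [gs_eq_sum, gs_eq_sum, map_sum]

theorem gs_top_eq_mul {C K : Submodule (ZMod p) S} (h : IsCompl C K) {f : S → ℂ}
    (hf : ∀ c ∈ C, ∀ k ∈ K, f (c + k) = f c * f k) :
    gs f (⊤ : Submodule (ZMod p) S) = gs f C * gs f K := by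
  have : Fintype C := Fintype.ofFinite _
  have : Fintype K := Fintype.ofFinite _
  have : Fintype (⊤ : Submodule (ZMod p) S) := Fintype.ofFinite _
  rw [gs_eq_sum, gs_eq_sum, gs_eq_sum, Finset.sum_mul_sum, ← Fintype.sum_prod_type']
  symm
  refine Fintype.sum_equiv ((Submodule.prodEquivOfIsCompl C K h).trans
    (Submodule.topEquiv (R := ZMod p) (M := S)).symm).toEquiv (fun x : C × K => f x.1 * f x.2) _ ?_
  rintro ⟨c, k⟩
  show f c * f k = f ((c : S) + k)
  rw [hf c c.2 k k.2]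

theorem sum_addChar_linear {ψ : AddChar (ZMod p) ℂ} (hψ : ψ ≠ 1) (N : Submodule (ZMod p) S)
    [Fintype N] (φ : N →ₗ[ZMod p] ZMod p) (hφ : φ ≠ 0) : ∑ y : N, ψ (φ y) = 0 := by
  have h1 : ψ.compAddMonoidHom φ.toAddMonoidHom ≠ 1 := by
    intro h
    obtain ⟨y, hy⟩ : ∃ y, φ y ≠ 0 := by
      by_contra hcon
      push Not at hcon
      exact hφ (LinearMap.ext hcon)
    apply hψ
    apply DFunLike.ext
    intro t
    have h2 := congrArg (fun χ : AddChar N ℂ => χ ((t / φ y) • y)) h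
    simp only [AddChar.compAddMonoidHom_apply] at h2
    have h3 : φ.toAddMonoidHom ((t / φ y) • y) = t := by
      show φ ((t / φ y) • y) = t
      rw [map_smul, smul_eq_mul, div_mul_cancel₀ _ hy]
    rw [h3] at h2
    rw [h2]
    rfl
  have h2 := AddChar.sum_eq_zero_of_ne_one h1
  rw [← h2]
  rfl

theorem addChar_mul_conj (ψ : AddChar (ZMod p) ℂ) (a b : ZMod p) :
    ψ a * conj (ψ b) = ψ (a - b) := by
  rw [← AddChar.map_neg_eq_conj, ← AddChar.map_add_eq_mul, sub_eq_add_neg]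

/-- the absolute value of a quadratic Gauss sum -/
theorem gs_mul_conj {ψ : AddChar (ZMod p) ℂ} (hψ : ψ ≠ 1) (N : Submodule (ZMod p) S)
    {q : S → ZMod p} {B : LinearMap.BilinForm (ZMod p) S}
    (hq : ∀ x y, q (x + y) = q x + q y + B x y)
    (hnd : ∀ x ∈ N, (∀ y ∈ N, B x y = 0) → x = 0) :
    gs (fun x => ψ (q x)) N * conj (gs (fun x => ψ (q x)) N) = Nat.card N := by
  classical
  have : Fintype N := Fintype.ofFinite _
  have hsymm : ∀ x y, B x y = B y x := by
    intro x y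
    have h1 := hq x y
    have h2 := hq y x
    rw [add_comm y x, h1] at h2
    linear_combination h2
  have hq0 : q 0 = 0 := by
    have h1 := hq 0 0
    rw [add_zero, map_zero, add_zero] at h1
    linear_combination -h1
  rw [gs_eq_sum, map_sum, mul_comm, Finset.sum_mul_sum]
  have h1 : ∀ x : N, ∑ y : N, conj (ψ (q x)) * ψ (q y) = ∑ z : N, ψ (q z) * ψ (B x z) := by
    intro x
    refine (Fintype.sum_equiv (Equiv.addLeft x) _ _ (fun z => ?_)).symm
    show ψ (q z) * ψ (B x z) = conj (ψ (q x)) * ψ (q ((x : S) + z))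
    rw [mul_comm (conj _), addChar_mul_conj, hq, ← AddChar.map_add_eq_mul]
    congr 1
    ring
  rw [Finset.sum_congr rfl (fun x _ => h1 x), Finset.sum_comm]
  have h2 : ∀ z : N, ∑ x : N, ψ (q z) * ψ (B x z) = if z = 0 then (Nat.card N : ℂ) else 0 := by
    intro z
    rw [← Finset.mul_sum]
    by_cases hz : z = 0
    · subst hz
      simp [hq0, Nat.card_eq_fintype_card]
    · rw [if_neg hz]
      have h3 := sum_addChar_linear hψ N ((B z).comp N.subtype) (by
        intro h
        apply hz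
        apply Subtype.ext
        refine hnd z z.2 (fun y hy => ?_)
        have := congrArg (fun φ : N →ₗ[ZMod p] ZMod p => φ ⟨y, hy⟩) h
        exact this)
      have h4 : ∑ x : N, ψ (B x z) = ∑ y : N, ψ (((B z).comp N.subtype) y) := by
        refine Finset.sum_congr rfl (fun x _ => ?_)
        rw [hsymm]
        rfl
      rw [h4, h3, mul_zero]
  rw [Finset.sum_congr rfl (fun z _ => h2 z), Finset.sum_ite_eq' Finset.univ 0]
  simp

theorem norm_gs_sq {ψ : AddChar (ZMod p) ℂ} (hψ : ψ ≠ 1) (N : Submodule (ZMod p) S)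
    {q : S → ZMod p} {B : LinearMap.BilinForm (ZMod p) S}
    (hq : ∀ x y, q (x + y) = q x + q y + B x y)
    (hnd : ∀ x ∈ N, (∀ y ∈ N, B x y = 0) → x = 0) :
    ‖gs (fun x => ψ (q x)) N‖ ^ 2 = Nat.card N := by
  have h1 := gs_mul_conj hψ N hq hnd
  rw [Complex.mul_conj, Complex.normSq_eq_norm_sq] at h1
  exact_mod_cast h1

theorem exists_addChar_ne_one (p : ℕ) [Fact p.Prime] : ∃ ψ : AddChar (ZMod p) ℂ, ψ ≠ 1 := by
  obtain ⟨ψ, hψ⟩ := (AddChar.exists_apply_ne_zero (a := (1 : ZMod p))).2 one_ne_zero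
  exact ⟨ψ, fun h => hψ (by rw [h]; rfl)⟩

theorem addChar_pow (ψ : AddChar (ZMod p) ℂ) (a : ZMod p) : ψ a ^ p = 1 := by
  rw [← AddChar.map_nsmul_eq_pow]
  have : p • a = 0 := by rw [nsmul_eq_mul, CharP.cast_eq_zero, zero_mul]
  rw [this, AddChar.map_zero_eq_one]

theorem isIntegral_addChar (ψ : AddChar (ZMod p) ℂ) (a : ZMod p) : IsIntegral ℤ (ψ a) :=
  IsIntegral.of_pow (Fact.out : p.Prime).pos ((addChar_pow ψ a).symm ▸ isIntegral_one)

/-- conjugate of an additive character -/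
noncomputable def conjChar (σ : ℂ ≃+* ℂ) (ψ : AddChar (ZMod p) ℂ) : AddChar (ZMod p) ℂ :=
  ((σ : ℂ →+* ℂ) : ℂ →* ℂ).compAddChar ψ

theorem conjChar_apply (σ : ℂ ≃+* ℂ) (ψ : AddChar (ZMod p) ℂ) (a : ZMod p) :
    conjChar σ ψ a = σ (ψ a) := rfl

theorem conjChar_ne_one (σ : ℂ ≃+* ℂ) {ψ : AddChar (ZMod p) ℂ} (hψ : ψ ≠ 1) :
    conjChar σ ψ ≠ 1 := by
  intro h
  apply hψ
  apply DFunLike.ext
  intro a
  have h5 := congrArg (fun φ : AddChar (ZMod p) ℂ => φ a) h
  simp only [conjChar_apply] at h5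
  have h6 : ((1 : AddChar (ZMod p) ℂ) a) = 1 := rfl
  rw [h6] at h5 ⊢
  apply σ.injective
  rw [h5, map_one]

variable {H : Type*} [Group H] [Fintype H]

/-- **`δ` for a quadratic form.** -/
theorem exists_delta_quadratic {M : Ideal AlgInt} (hM : IsPModular p M) (hp : ¬ p ∣ Nat.card H)
    (ρ : Representation (ZMod p) H S) (q : S → ZMod p) (B : LinearMap.BilinForm (ZMod p) S)
    (hq : ∀ x y, q (x + y) = q x + q y + B x y) (hinv : ∀ h x, q (ρ h x) = q x)
    (hnd : ∀ x, (∀ y, B x y = 0) → x = 0) :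
    ∃ δ : H → ℂ, Delta M (fun h s => ρ h s) δ := by
  classical
  have hprime := isPrime_of_isPModular hM
  obtain ⟨ψ, hψ⟩ := exists_addChar_ne_one p
  have hsymm : ∀ x y, B x y = B y x := by
    intro x y
    have h1 := hq x y
    have h2 := hq y x
    rw [add_comm y x, h1] at h2
    linear_combination h2
  have hq0 : q 0 = 0 := by
    have h1 := hq 0 0
    rw [add_zero, map_zero, add_zero] at h1
    linear_combination -h1
  have hBinv : ∀ h x y, B (ρ h x) (ρ h y) = B x y := by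
    intro h x y
    have h1 := hq (ρ h x) (ρ h y)
    rw [← map_add, hinv, hinv, hinv, hq] at h1
    linear_combination -h1
  have hCK : ∀ h : H, ∀ c ∈ Cfix ρ h, ∀ k ∈ Kran ρ h, B c k = 0 := by
    intro h c hc k hk
    obtain ⟨u, rfl⟩ := (mem_Kran ρ).1 hk
    have h1 := hBinv h c u
    rw [(mem_Cfix ρ).1 hc] at h1
    rw [map_sub, h1, sub_self]
  have hKC : ∀ h : H, ∀ c ∈ Cfix ρ h, ∀ k ∈ Kran ρ h, B k c = 0 := fun h c hc k hk => by
    rw [hsymm]; exact hCK h c hc k hk
  have hndC : ∀ h : H, ∀ x ∈ Cfix ρ h, (∀ y ∈ Cfix ρ h, B x y = 0) → x = 0 := by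
    intro h x hx h0
    refine hnd x (fun y => ?_)
    obtain ⟨c, hc, k, hk, rfl⟩ := exists_add_of_compl ρ hp h y
    rw [map_add, h0 c hc, hCK h x hx k hk, add_zero]
  have hndK : ∀ h : H, ∀ x ∈ Kran ρ h, (∀ y ∈ Kran ρ h, B x y = 0) → x = 0 := by
    intro h x hx h0
    refine hnd x (fun y => ?_)
    obtain ⟨c, hc, k, hk, rfl⟩ := exists_add_of_compl ρ hp h y
    rw [map_add, h0 k hk, hKC h c hc x hx, add_zero]
  -- the factorization
  have hfac : ∀ h : H, gs (fun x => ψ (q x)) (⊤ : Submodule (ZMod p) S) =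
      gs (fun x => ψ (q x)) (Cfix ρ h) * gs (fun x => ψ (q x)) (Kran ρ h) := by
    intro h
    refine gs_top_eq_mul (isCompl_fix ρ hp h) (fun c hc k hk => ?_)
    rw [hq, hCK h c hc k hk, add_zero, AddChar.map_add_eq_mul]
  have hint : ∀ h : H, IsIntegral ℤ (gs (fun x => ψ (q x)) (Kran ρ h)) := by
    intro h
    have : Fintype (Kran ρ h) := Fintype.ofFinite _
    rw [gs_eq_sum]
    exact IsIntegral.sum _ (fun x _ => isIntegral_addChar ψ _)
  refine ⟨fun h => gs (fun x => ψ (q x)) (Kran ρ h), ?_, ?_, ?_, ?_, ?_⟩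
  · -- integral coefficients
    refine intCl_of_piFix_mul ρ hp hint ?_
    have h1 : (piFix ρ * fun h => gs (fun x => ψ (q x)) (Kran ρ h)) =
        (gs (fun x => ψ (q x)) (⊤ : Submodule (ZMod p) S)) • ∑ a : ZMod p,
          (ψ (-a)) • (fun h => (Nat.card {x : S // q x = a ∧ ρ h x = x} : ℂ)) := by
      funext h
      have h2 : (∑ a : ZMod p, (ψ (-a)) • (fun h => (Nat.card {x : S // q x = a ∧ ρ h x = x} : ℂ))) h =
          conj (gs (fun x => ψ (q x)) (Cfix ρ h)) := by
        have : Fintype (Cfix ρ h) := Fintype.ofFinite _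
        rw [conj_gs, gs_eq_sum, Finset.sum_apply, ← Finset.sum_fiberwise Finset.univ (fun x : Cfix ρ h => q x)]
        refine Finset.sum_congr rfl (fun a _ => ?_)
        have h3 : ∑ x ∈ Finset.filter (fun x : Cfix ρ h => q (x : S) = a) Finset.univ, conj (ψ (q (x : S))) =
            ∑ x ∈ Finset.filter (fun x : Cfix ρ h => q (x : S) = a) Finset.univ, ψ (-a) := by
          refine Finset.sum_congr rfl (fun x hx => ?_)
          rw [Finset.mem_filter] at hx
          rw [hx.2, AddChar.map_neg_eq_conj]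
        rw [h3, Finset.sum_const, Pi.smul_apply, smul_eq_mul, nsmul_eq_mul, mul_comm]
        congr 1
        rw [← Fintype.card_subtype, ← Nat.card_eq_fintype_card]
        congr 1
        exact Nat.card_congr
          { toFun := fun x => ⟨⟨x.1, (mem_Cfix ρ).2 x.2.2⟩, x.2.1⟩
            invFun := fun x => ⟨x.1.1, x.2, (mem_Cfix ρ).1 x.1.2⟩
            left_inv := fun x => rfl
            right_inv := fun x => rfl }
      rw [Pi.mul_apply, Pi.smul_apply, h2, smul_eq_mul, hfac h]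
      have h3 := gs_mul_conj hψ (Cfix ρ h) hq (hndC h)
      unfold piFix
      rw [← h3]
      ring
    rw [h1]
    refine IntCl.smul (IntCl.sum _ (fun a _ => IntCl.smul (IntCl.of_isCharacter ?_)
      (isIntegral_addChar ψ _))) ?_
    · exact isCharacter_fix ρ (fun x => q x = a) (fun h x hx => by rw [hinv]; exact hx)
    · have : Fintype (⊤ : Submodule (ZMod p) S) := Fintype.ofFinite _
      rw [gs_eq_sum]
      exact IsIntegral.sum _ (fun x _ => isIntegral_addChar ψ _)
  · refine ⟨p, (Fact.out : p.Prime).ne_zero, fun h => ?_⟩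
    have : Fintype (Kran ρ h) := Fintype.ofFinite _
    show gs _ _ ∈ _
    rw [gs_eq_sum]
    exact sum_mem (fun x _ => mem_Cyc_of_pow (addChar_pow ψ _))
  · show gs _ _ = _
    rw [Kran_one, gs_bot, hq0, AddChar.map_zero_eq_one]
  · rintro h ⟨s, hs⟩
    have : Fintype (Kran ρ h) := Fintype.ofFinite _
    show MemLocalIdeal M (gs _ _)
    have h1 : gs (fun x => ψ (q x)) (Kran ρ h) =
        ∑ x : Kran ρ h, (ψ (q x) - 1) + (Nat.card (Kran ρ h) : ℂ) := by
      rw [gs_eq_sum, Finset.sum_sub_distrib]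
      simp [Nat.card_eq_fintype_card]
    rw [h1]
    refine memLocalIdeal_add (memLocalIdeal_sum (fun x _ =>
      Cfsg.Agent.Blocks.Twist.memLocalIdeal_sub_one_of_pow_eq_one hM (addChar_pow ψ _))) ?_
    rw [memLocalIdeal_natCast_iff hM, card_submodule]
    refine dvd_pow_self p ?_
    intro h0
    have : Module.Finite (ZMod p) S := Module.Finite.of_finite
    rw [Submodule.finrank_eq_zero] at h0
    apply hs
    have h2 := sub_mem_Kran ρ h s
    rw [h0, Submodule.mem_bot, sub_eq_zero] at h2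
    exact h2.symm
  · intro σ h
    have h1 : σ (gs (fun x => ψ (q x)) (Kran ρ h)) = gs (fun x => conjChar σ ψ (q x)) (Kran ρ h) :=
      map_gs σ _ _
    have h2 := norm_gs_sq (conjChar_ne_one σ hψ) (Kran ρ h) hq (hndK h)
    show ‖σ (gs (fun x => ψ (q x)) (Kran ρ h))‖ ^ 2 * _ = _
    rw [h1, h2]
    have h3 : Nat.card {s : S // ρ h s = s} = Nat.card (Cfix ρ h) :=
      Nat.card_congr (Equiv.subtypeEquivRight (fun x => (mem_Cfix ρ).symm))
    rw [h3, mul_comm]
    exact_mod_cast card_mul ρ h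

end

end Cfsg.Agent.H718
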