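import Cfsg.Agent.H718.SymDelta
import Cfsg.Agent.S0148
import Cfsg.Agent.Blocks.LocalRing

/-!
# `δ` for an invariant nondegenerate alternating form, `p` odd: the Weil representation

`κ` is an alternating nondegenerate bicharacter on `S` invariant under `H`; the matrices `T v` span
a twisted group algebra, `E h` is the element of this algebra with `E h * T v = T (h v) * E h`,
normalized to have coefficient `1` at `T 0`; `E g * E h = c g h • E (g h)` and the cocycle `c` is
trivial by coprimality.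
-/

set_option autoImplicit false
set_option linter.unusedSectionVars false

open scoped ComplexConjugate

namespace Cfsg.Agent.H718.Weil

open Cfsg Cfsg.Agent.Characters.Core Cfsg.Agent.Blocks.Local Matrix

variable {p : ℕ} [Fact p.Prime] {H : Type*} [Group H] [Fintype H] {S : Type*} [AddCommGroup S]
  [Module (ZMod p) S] [Finite S]

/-- an invariant alternating nondegenerate bicharacter -/
structure Symp (ρ : Representation (ZMod p) H S) (κ : S → S → ℂ) : Prop where
  add_left : ∀ x y z, κ (x + y) z = κ x z * κ y z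
  add_right : ∀ x y z, κ x (y + z) = κ x y * κ x z
  self : ∀ x, κ x x = 1
  pow : ∀ x y, κ x y ^ p = 1
  nd : ∀ x, (∀ y, κ x y = 1) → x = 0
  inv : ∀ h x y, κ (ρ h x) (ρ h y) = κ x y

namespace Symp

variable {ρ : Representation (ZMod p) H S} {κ : S → S → ℂ}

theorem ne_zero (s : Symp ρ κ) (x y : S) : κ x y ≠ 0 := by
  intro h
  have := s.pow x y
  rw [h, zero_pow (Fact.out : p.Prime).ne_zero] at this
  exact zero_ne_one this

theorem zero_left (s : Symp ρ κ) (y : S) : κ 0 y = 1 := by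
  have := s.add_left 0 0 y
  rw [add_zero] at this
  exact (mul_eq_left₀ (s.ne_zero 0 y)).1 this.symm

theorem zero_right (s : Symp ρ κ) (y : S) : κ y 0 = 1 := by
  have := s.add_right y 0 0
  rw [add_zero] at this
  exact (mul_eq_left₀ (s.ne_zero y 0)).1 this.symm

theorem mul_swap (s : Symp ρ κ) (x y : S) : κ x y * κ y x = 1 := by
  have h1 := s.self (x + y)
  rw [s.add_left, s.add_right, s.add_right, s.self, s.self] at h1
  simpa using h1

theorem swap (s : Symp ρ κ) (x y : S) : κ y x = (κ x y)⁻¹ :=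
  eq_inv_of_mul_eq_one_right (s.mul_swap x y)

theorem neg_left (s : Symp ρ κ) (x y : S) : κ (-x) y = (κ x y)⁻¹ := by
  have h1 := s.add_left x (-x) y
  rw [add_neg_cancel, s.zero_left] at h1
  exact eq_inv_of_mul_eq_one_right h1.symm

theorem neg_right (s : Symp ρ κ) (x y : S) : κ x (-y) = (κ x y)⁻¹ := by
  have h1 := s.add_right x y (-y)
  rw [add_neg_cancel, s.zero_right] at h1
  exact eq_inv_of_mul_eq_one_right h1.symm

theorem sub_left (s : Symp ρ κ) (x y z : S) : κ (x - y) z = κ x z * (κ y z)⁻¹ := by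
  rw [sub_eq_add_neg, s.add_left, s.neg_left]

theorem sub_right (s : Symp ρ κ) (x y z : S) : κ x (y - z) = κ x y * (κ x z)⁻¹ := by
  rw [sub_eq_add_neg, s.add_right, s.neg_right]

theorem norm_eq (s : Symp ρ κ) (x y : S) : ‖κ x y‖ = 1 :=
  Complex.norm_eq_one_of_pow_eq_one (s.pow x y) (Fact.out : p.Prime).ne_zero

theorem conj_eq (s : Symp ρ κ) (x y : S) : conj (κ x y) = (κ x y)⁻¹ := by
  rw [Complex.inv_def, Complex.normSq_eq_norm_sq, s.norm_eq]
  simp

/-- conjugates -/
theorem map (s : Symp ρ κ) (σ : ℂ ≃+* ℂ) : Symp ρ (fun x y => σ (κ x y)) where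
  add_left x y z := by simp only [s.add_left, map_mul]
  add_right x y z := by simp only [s.add_right, map_mul]
  self x := by rw [s.self, map_one]
  pow x y := by rw [← map_pow, s.pow, map_one]
  nd x h := s.nd x (fun y => σ.injective (by rw [h y, map_one]))
  inv h x y := by simp only [s.inv]

theorem eq_one_of_fix (s : Symp ρ κ) {k : H} {c w : S} (hc : c ∈ Cfix ρ k) (hw : w ∈ Kran ρ k) :
    κ w c = 1 := by
  obtain ⟨u, rfl⟩ := (mem_Kran ρ).1 hw
  have h1 := s.inv k u c
  rw [(mem_Cfix ρ).1 hc] at h1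
  rw [s.sub_left, h1, mul_inv_cancel₀ (s.ne_zero _ _)]

/-- `K = C^⊥` -/
theorem exists_of_not_mem (s : Symp ρ κ) (hp : ¬ p ∣ Nat.card H) {k : H} {w : S}
    (hw : w ∉ Kran ρ k) : ∃ c ∈ Cfix ρ k, κ w c ≠ 1 := by
  by_contra hcon
  push Not at hcon
  apply hw
  obtain ⟨c₀, hc₀, k₀, hk₀, rfl⟩ := exists_add_of_compl ρ hp k w
  have h0 : c₀ = 0 := by
    refine s.nd c₀ (fun y => ?_)
    obtain ⟨c, hc, k', hk', rfl⟩ := exists_add_of_compl ρ hp k y
    have h1 := hcon c hc
    rw [s.add_left, s.eq_one_of_fix hc hk₀, mul_one] at h1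
    rw [s.add_right, h1, one_mul, s.swap, s.eq_one_of_fix hc₀ hk', inv_one]
  rw [h0, zero_add]
  exact hk₀

end Symp

variable (ρ : Representation (ZMod p) H S) (κ : S → S → ℂ)

open Classical in
/-- the coefficients of `E k` -/
noncomputable def e (k : H) (w : S) : ℂ :=
  if h : ∃ u, u - ρ k u = w then κ h.choose (ρ k h.choose) else 0

variable {ρ κ}

theorem e_apply (s : Symp ρ κ) (k : H) (u : S) : e ρ κ k (u - ρ k u) = κ u (ρ k u) := by
  have h : ∃ v, v - ρ k v = u - ρ k u := ⟨u, rfl⟩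
  unfold e
  rw [dif_pos h]
  have h1 := h.choose_spec
  set v := h.choose
  obtain ⟨c, hc⟩ : ∃ c, v = u + c := ⟨v - u, by abel⟩
  have hcf : ρ k c = c := by
    rw [hc, map_add] at h1
    have : c - ρ k c = 0 := by
      have h2 : u + c - (ρ k u + ρ k c) = (u - ρ k u) + (c - ρ k c) := by abel
      rw [h2] at h1
      exact (add_eq_left).1 h1
    exact (sub_eq_zero.1 this).symm
  have h3 : κ (u - ρ k u) c = 1 := s.eq_one_of_fix ((mem_Cfix ρ).2 hcf) (sub_mem_Kran ρ k u)
  rw [s.sub_left] at h3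
  have h4 : κ u c = κ (ρ k u) c := by
    rw [mul_inv_eq_one₀ (s.ne_zero _ _)] at h3
    exact h3
  rw [hc, map_add, hcf, s.add_left, s.add_right, s.add_right, s.self, h4, mul_one, s.swap (ρ k u) c,
    mul_assoc, mul_inv_cancel₀ (s.ne_zero _ _), mul_one]

theorem e_not_mem {k : H} {w : S} (hw : w ∉ Kran ρ k) : e ρ κ k w = 0 := by
  unfold e
  rw [dif_neg]
  intro h
  exact hw ((mem_Kran ρ).2 h)

theorem e_zero (s : Symp ρ κ) (k : H) : e ρ κ k 0 = 1 := by
  have h := e_apply s k 0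
  rw [map_zero, sub_zero, s.self] at h
  exact h

theorem e_pow (s : Symp ρ κ) {k : H} {w : S} (hw : w ∈ Kran ρ k) : e ρ κ k w ^ p = 1 := by
  obtain ⟨u, rfl⟩ := (mem_Kran ρ).1 hw
  rw [e_apply s]
  exact s.pow _ _

theorem map_e (s : Symp ρ κ) (σ : ℂ ≃+* ℂ) (k : H) (w : S) :
    σ (e ρ κ k w) = e ρ (fun x y => σ (κ x y)) k w := by
  by_cases hw : w ∈ Kran ρ k
  · obtain ⟨u, rfl⟩ := (mem_Kran ρ).1 hw
    rw [e_apply s, e_apply (s.map σ)]
  · rw [e_not_mem hw, e_not_mem hw, map_zero]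

variable [Fintype S] [DecidableEq S]

variable (ρ κ) in
/-- the matrix `E k` -/
noncomputable def E (k : H) : Matrix S S ℂ := Matrix.of fun x y => e ρ κ k (x - y) * κ x y

variable (κ) in
/-- the matrices `T v` -/
noncomputable def T (v : S) : Matrix S S ℂ := Matrix.of fun x y => if x = y + v then κ v y else 0

variable (κ) in
/-- membership in the twisted group algebra -/
def InA (X : Matrix S S ℂ) : Prop := ∀ x y, X x y = X (x - y) 0 * κ x y

theorem mul_T (X : Matrix S S ℂ) (v x y : S) : (X * T κ v) x y = X x (y + v) * κ v y := by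
  rw [Matrix.mul_apply, Finset.sum_eq_single (y + v)]
  · simp [T]
  · intro b _ hb
    simp [T, hb]
  · intro h
    exact absurd (Finset.mem_univ _) h

theorem T_mul (s : Symp ρ κ) (X : Matrix S S ℂ) (v x y : S) :
    (T κ v * X) x y = κ v x * X (x - v) y := by
  rw [Matrix.mul_apply, Finset.sum_eq_single (x - v)]
  · simp only [T, Matrix.of_apply, sub_add_cancel, if_true]
    rw [s.sub_right, s.self, inv_one, mul_one]
  · intro b _ hb
    have : x ≠ b + v := fun h => hb (by rw [h]; abel)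
    simp [T, this]
  · intro h
    exact absurd (Finset.mem_univ _) h

theorem InA.mul (s : Symp ρ κ) {X Y : Matrix S S ℂ} (hX : InA κ X) (hY : InA κ Y) :
    InA κ (X * Y) := by
  intro x y
  rw [Matrix.mul_apply, Matrix.mul_apply, Finset.sum_mul]
  refine Fintype.sum_equiv (Equiv.subRight y) _ _ (fun z => ?_)
  show X x z * Y z y = X (x - y) (z - y) * Y (z - y) 0 * κ x y
  rw [hX x z, hY z y, hX (x - y) (z - y)]
  have h1 : x - y - (z - y) = x - z := by abel
  rw [h1, s.sub_left, s.sub_right, s.sub_right, s.self, inv_one, mul_one, s.swap z y]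
  have := s.ne_zero x y
  field_simp

theorem E_inA (s : Symp ρ κ) (k : H) : InA κ (E ρ κ k) := by
  intro x y
  simp only [E, Matrix.of_apply, sub_zero]
  rw [s.zero_right, mul_one]

theorem E_zero_zero (s : Symp ρ κ) (k : H) : E ρ κ k 0 0 = 1 := by
  simp only [E, Matrix.of_apply, sub_zero]
  rw [e_zero s, s.self, mul_one]

/-- intertwining -/
theorem E_mul_T (s : Symp ρ κ) (k : H) (v : S) : E ρ κ k * T κ v = T κ (ρ k v) * E ρ κ k := by
  ext x y
  rw [mul_T, T_mul s]
  simp only [E, Matrix.of_apply]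
  by_cases hw : x - (y + v) ∈ Kran ρ k
  · obtain ⟨u, hu⟩ := (mem_Kran ρ).1 hw
    have hx : x = u - ρ k u + (y + v) := by rw [hu]; abel
    have h2 : x - ρ k v - y = (u + v) - ρ k (u + v) := by
      rw [hx, map_add]; abel
    rw [h2, e_apply s, ← hu, e_apply s, map_add, hx]
    simp only [s.add_left, s.add_right, s.sub_left, s.sub_right, s.self, mul_one]
    rw [s.inv k v u, s.swap u v, s.swap v y, s.swap u (ρ k v), s.swap v (ρ k v),
      s.swap v (ρ k u)]
    have a1 := s.ne_zero u v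
    have a2 := s.ne_zero v y
    have a3 := s.ne_zero (ρ k v) y
    have a4 := s.ne_zero v (ρ k u)
    have a5 := s.ne_zero v (ρ k v)
    have a6 := s.ne_zero u (ρ k v)
    have a7 := s.ne_zero u y
    have a8 := s.ne_zero (ρ k u) y
    have a9 := s.ne_zero u (ρ k u)
    field_simp
  · have hw' : x - ρ k v - y ∉ Kran ρ k := by
      intro h
      apply hw
      have h1 : x - (y + v) = (x - ρ k v - y) - (v - ρ k v) := by abel
      rw [h1]
      exact Submodule.sub_mem _ h (sub_mem_Kran ρ k v)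
    rw [e_not_mem hw, e_not_mem hw']
    ring

/-- uniqueness of the intertwiners -/
theorem eq_smul (s : Symp ρ κ) (hp : ¬ p ∣ Nat.card H) (hp2 : p ≠ 2) {X : Matrix S S ℂ}
    (hX : InA κ X) (k : H) (hT : ∀ v, X * T κ v = T κ (ρ k v) * X) : X = X 0 0 • E ρ κ k := by
  have h1 : ∀ x v, X x v = κ (ρ k v) x * X (x - ρ k v) 0 := by
    intro x v
    have h2 := congrArg (fun Y : Matrix S S ℂ => Y x 0) (hT v)
    simp only [mul_T, T_mul s] at h2
    rw [zero_add, s.zero_right, mul_one] at h2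
    exact h2
  have h3 : ∀ w, X w 0 = X 0 0 * e ρ κ k w := by
    intro w
    by_cases hw : w ∈ Kran ρ k
    · obtain ⟨u, rfl⟩ := (mem_Kran ρ).1 hw
      have h4 := h1 u u
      rw [hX u u, sub_self, s.self, mul_one] at h4
      rw [e_apply s, h4, s.swap u (ρ k u)]
      have := s.ne_zero u (ρ k u)
      field_simp
    · rw [e_not_mem hw, mul_zero]
      obtain ⟨c, hc, hc1⟩ := s.exists_of_not_mem hp hw
      have h4 := h1 (w + c) c
      rw [hX (w + c) c, (mem_Cfix ρ).1 hc, add_sub_cancel_right, s.add_left, s.add_right, s.self,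
        mul_one, mul_one, s.swap w c] at h4
      by_contra hne
      have h5 : κ w c ^ 2 = 1 := by
        have h6 : κ w c = (κ w c)⁻¹ := by
          apply mul_left_cancel₀ hne
          rw [h4, mul_comm]
        rw [sq]
        nth_rewrite 2 [h6]
        exact mul_inv_cancel₀ (s.ne_zero _ _)
      apply hc1
      have h7 : Nat.gcd 2 p = 1 := by
        rw [← Nat.coprime_iff_gcd_eq_one]
        exact (Nat.coprime_primes Nat.prime_two Fact.out).2 (Ne.symm hp2)
      have h8 : κ w c ^ Nat.gcd 2 p = 1 := pow_gcd_eq_one.2 ⟨h5, s.pow w c⟩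
      rwa [h7, pow_one] at h8
  ext x y
  rw [Matrix.smul_apply, smul_eq_mul, hX x y, h3]
  simp only [E, Matrix.of_apply]
  ring

/-- the product of two of the matrices -/
theorem E_mul_E (s : Symp ρ κ) (hp : ¬ p ∣ Nat.card H) (hp2 : p ≠ 2) (g h : H) :
    E ρ κ g * E ρ κ h = (E ρ κ g * E ρ κ h) 0 0 • E ρ κ (g * h) := by
  refine eq_smul s hp hp2 ((E_inA s g).mul s (E_inA s h)) (g * h) (fun v => ?_)
  rw [Matrix.mul_assoc, E_mul_T s h, ← Matrix.mul_assoc, E_mul_T s g, Matrix.mul_assoc, rho_mul]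

theorem E_one (s : Symp ρ κ) : E ρ κ (1 : H) = 1 := by
  ext x y
  simp only [E, Matrix.of_apply]
  by_cases h : x = y
  · subst h
    rw [sub_self, e_zero s, s.self, mul_one, Matrix.one_apply_eq]
  · rw [Matrix.one_apply_ne h, e_not_mem, zero_mul]
    rw [Kran_one, Submodule.mem_bot, sub_eq_zero]
    exact h

theorem T_conjTranspose (s : Symp ρ κ) (v : S) : (T κ v)ᴴ = T κ (-v) := by
  ext x y
  rw [Matrix.conjTranspose_apply]
  simp only [T, Matrix.of_apply]
  by_cases h : y = x + v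
  · have h' : x = y + -v := by rw [h]; abel
    rw [if_pos h, if_pos h', h]
    rw [← starRingEnd_apply, s.conj_eq, s.neg_left, s.add_right, s.self, mul_one]
  · have h' : x ≠ y + -v := fun h' => h (by rw [h']; abel)
    rw [if_neg h, if_neg h', star_zero]

/-- `E k` is unitary up to a scalar -/
theorem E_mul_conjTranspose (s : Symp ρ κ) (hp : ¬ p ∣ Nat.card H) (hp2 : p ≠ 2) (k : H) :
    E ρ κ k * (E ρ κ k)ᴴ = (Nat.card (Kran ρ k) : ℂ) • (1 : Matrix S S ℂ) := by
  have hT : ∀ v, (E ρ κ k)ᴴ * T κ v = T κ (ρ k⁻¹ v) * (E ρ κ k)ᴴ := by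
    intro v
    have h1 := congrArg Matrix.conjTranspose (E_mul_T s k (-(ρ k⁻¹ v)))
    rw [Matrix.conjTranspose_mul, Matrix.conjTranspose_mul, T_conjTranspose s, T_conjTranspose s,
      map_neg, rho_self_inv, neg_neg, neg_neg] at h1
    exact h1.symm
  have hA : InA κ (E ρ κ k)ᴴ := by
    intro x y
    rw [Matrix.conjTranspose_apply, Matrix.conjTranspose_apply]
    simp only [E, Matrix.of_apply]
    rw [s.zero_left, mul_one, zero_sub, neg_sub, star_mul', ← starRingEnd_apply (κ y x), s.conj_eq,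
      ← s.swap y x]
  have h1 := eq_smul s hp hp2 ((E_inA s k).mul s hA) (1 : H) (fun v => by
    rw [Matrix.mul_assoc, hT, ← Matrix.mul_assoc, E_mul_T s, Matrix.mul_assoc, rho_self_inv,
      rho_one])
  rw [h1, E_one s]
  congr 1
  rw [Matrix.mul_apply]
  classical
  have h2 : ∀ z : S, E ρ κ k 0 z * (E ρ κ k)ᴴ z 0 = if -z ∈ Kran ρ k then 1 else 0 := by
    intro z
    rw [Matrix.conjTranspose_apply]
    simp only [E, Matrix.of_apply]
    rw [s.zero_left, mul_one, zero_sub, ← starRingEnd_apply, Complex.mul_conj,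
      Complex.normSq_eq_norm_sq]
    by_cases hz : -z ∈ Kran ρ k
    · rw [if_pos hz, Complex.norm_eq_one_of_pow_eq_one (e_pow s hz) (Fact.out : p.Prime).ne_zero]
      simp
    · rw [if_neg hz, e_not_mem hz]
      simp
  rw [Finset.sum_congr rfl (fun z _ => h2 z)]
  have h3 : ∑ z : S, (if -z ∈ Kran ρ k then (1 : ℂ) else 0) =
      ∑ z : S, (if z ∈ Kran ρ k then (1 : ℂ) else 0) :=
    Fintype.sum_equiv (Equiv.neg S) _ _ (fun z => rfl)
  rw [h3, Finset.sum_boole, Nat.card_eq_fintype_card, Fintype.card_subtype]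

theorem det_E_ne_zero (s : Symp ρ κ) (hp : ¬ p ∣ Nat.card H) (hp2 : p ≠ 2) (k : H) :
    (E ρ κ k).det ≠ 0 := by
  intro h
  have h1 := congrArg Matrix.det (E_mul_conjTranspose s hp hp2 k)
  rw [Matrix.det_mul, h, zero_mul, Matrix.det_smul, Matrix.det_one, mul_one] at h1
  exact (pow_ne_zero _ (by exact_mod_cast Nat.card_pos.ne')) h1.symm

/-- the coprime cocycle is trivial -/
theorem exists_mu {n : ℕ} {ι : Type*} [Fintype ι] [DecidableEq ι] (hn : Fintype.card ι = n)
    (hcop : Nat.Coprime n (Nat.card H)) (F : H → Matrix ι ι ℂ) (c : H → H → ℂ)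
    (hc : ∀ g h, F g * F h = c g h • F (g * h)) (hdet : ∀ g, (F g).det ≠ 0) (h1 : F 1 = 1)
    (hi : Nonempty ι) :
    ∃ μ : H → ℂ, (∀ h, μ h ≠ 0) ∧ (∀ g h, μ g * μ h = c g h * μ (g * h)) ∧ μ 1 = 1 := by
  have hc0 : ∀ g h, c g h ≠ 0 := by
    intro g h h0
    have h2 := congrArg Matrix.det (hc g h)
    rw [h0, zero_smul, Matrix.det_mul, Matrix.det_zero] at h2
    exact (mul_ne_zero (hdet g) (hdet h)) h2
  have hF0 : ∀ g, F g ≠ 0 := by
    intro g h0
    apply hdet g
    rw [h0, Matrix.det_zero]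
  have hd : ∀ g h, (F g).det * (F h).det = c g h ^ n * (F (g * h)).det := by
    intro g h
    rw [← Matrix.det_mul, hc, Matrix.det_smul, hn]
  have hassoc : ∀ g h k, c g h * c (g * h) k = c h k * c g (h * k) := by
    intro g h k
    have h2 : F g * F h * F k = F g * (F h * F k) := Matrix.mul_assoc _ _ _
    rw [hc g h, hc h k, Matrix.smul_mul, Matrix.mul_smul, hc, hc, smul_smul, smul_smul,
      mul_assoc g h k] at h2
    have h3 : (c g h * c (g * h) k - c h k * c g (h * k)) • F (g * (h * k)) = 0 := by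
      rw [sub_smul, h2, sub_self]
    rcases smul_eq_zero.1 h3 with h4 | h4
    · exact sub_eq_zero.1 h4
    · exact absurd h4 (hF0 _)
  set f : H → ℂ := fun h => ∏ g : H, c g h with hf
  have hf0 : ∀ h, f h ≠ 0 := fun h => Finset.prod_ne_zero_iff.2 (fun g _ => hc0 g h)
  have hfm : ∀ h k, f h * f k = c h k ^ (Nat.card H) * f (h * k) := by
    intro h k
    have h2 : ∏ g : H, (c g h * c (g * h) k) = ∏ g : H, (c h k * c g (h * k)) :=
      Finset.prod_congr rfl (fun g _ => hassoc g h k)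
    rw [Finset.prod_mul_distrib, Finset.prod_mul_distrib, Finset.prod_const, Finset.card_univ,
      ← Nat.card_eq_fintype_card] at h2
    have h3 : ∏ g : H, c (g * h) k = f k :=
      Fintype.prod_equiv (Equiv.mulRight h) _ _ (fun g => rfl)
    rw [h3] at h2
    exact h2
  obtain ⟨a, b, hab⟩ : IsCoprime (n : ℤ) (Nat.card H : ℤ) := Nat.isCoprime_iff_coprime.2 hcop
  have hmul : ∀ g h, ((F g).det ^ a * f g ^ b) * ((F h).det ^ a * f h ^ b) =
      c g h * ((F (g * h)).det ^ a * f (g * h) ^ b) := by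
    intro g h
    have e1 : ((F g).det ^ a * f g ^ b) * ((F h).det ^ a * f h ^ b) =
        ((F g).det * (F h).det) ^ a * (f g * f h) ^ b := by
      rw [mul_zpow, mul_zpow]; ring
    rw [e1, hd, hfm, mul_zpow, mul_zpow, ← zpow_natCast, ← zpow_natCast, ← _root_.zpow_mul,
      ← _root_.zpow_mul]
    have e2 : c g h = c g h ^ ((n : ℤ) * a) * c g h ^ ((Nat.card H : ℤ) * b) := by
      rw [← zpow_add₀ (hc0 g h)]
      have : (n : ℤ) * a + (Nat.card H : ℤ) * b = 1 := by linarith
      rw [this, zpow_one]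
    conv_rhs => rw [e2]
    ring
  have hne : ∀ g, (F g).det ^ a * f g ^ b ≠ 0 := fun g =>
    mul_ne_zero (zpow_ne_zero _ (hdet g)) (zpow_ne_zero _ (hf0 g))
  refine ⟨fun g => (F g).det ^ a * f g ^ b, hne, hmul, ?_⟩
  have h2 := hmul 1 1
  have h3 : c 1 1 = 1 := by
    have h4 := hc 1 1
    rw [mul_one, h1, mul_one] at h4
    have h5 := congrArg (fun X : Matrix ι ι ℂ => X hi.some hi.some) h4
    simpa using h5.symm
  rw [mul_one, h3, one_mul] at h2
  exact (mul_eq_left₀ (hne 1)).1 h2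

theorem E_pow_mul_conj (s : Symp ρ κ) (hp : ¬ p ∣ Nat.card H) (hp2 : p ≠ 2) (k : H) (N : ℕ) :
    E ρ κ k ^ N * ((E ρ κ k)ᴴ) ^ N = ((Nat.card (Kran ρ k) : ℂ) ^ N) • (1 : Matrix S S ℂ) := by
  induction N with
  | zero => simp
  | succ N ih =>
    rw [pow_succ, pow_succ', Matrix.mul_assoc, ← Matrix.mul_assoc (E ρ κ k),
      E_mul_conjTranspose s hp hp2, Matrix.smul_mul, Matrix.one_mul, Matrix.mul_smul, ih, smul_smul,
      pow_succ, mul_comm]

theorem norm_of_pow (s : Symp ρ κ) (hp : ¬ p ∣ Nat.card H) (hp2 : p ≠ 2) (k : H) {N : ℕ} {l : ℂ}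
    (h : E ρ κ k ^ N = l • (1 : Matrix S S ℂ)) : ‖l‖ ^ 2 = (Nat.card (Kran ρ k) : ℝ) ^ N := by
  have h1 := E_pow_mul_conj s hp hp2 k N
  rw [← Matrix.conjTranspose_pow, h, Matrix.conjTranspose_smul, Matrix.conjTranspose_one,
    Matrix.smul_mul, Matrix.one_mul, smul_smul] at h1
  have h2 := congrArg (fun X : Matrix S S ℂ => X 0 0) h1
  simp only [Matrix.smul_apply, Matrix.one_apply_eq, smul_eq_mul, mul_one] at h2
  rw [← starRingEnd_apply, Complex.mul_conj, Complex.normSq_eq_norm_sq] at h2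
  exact_mod_cast h2

theorem map_E (s : Symp ρ κ) (σ : ℂ ≃+* ℂ) (k : H) :
    (σ : ℂ →+* ℂ).mapMatrix (E ρ κ k) = E ρ (fun x y => σ (κ x y)) k := by
  ext x y
  rw [RingHom.mapMatrix_apply, Matrix.map_apply]
  simp only [E, Matrix.of_apply]
  rw [← map_e s σ]
  exact map_mul σ _ _

theorem map_of_pow (s : Symp ρ κ) (σ : ℂ ≃+* ℂ) (k : H) {N : ℕ} {l : ℂ}
    (h : E ρ κ k ^ N = l • (1 : Matrix S S ℂ)) :
    E ρ (fun x y => σ (κ x y)) k ^ N = σ l • (1 : Matrix S S ℂ) := by
  rw [← map_E s, ← map_pow, h]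
  ext x y
  rw [RingHom.mapMatrix_apply, Matrix.map_apply, Matrix.smul_apply, Matrix.smul_apply,
    smul_eq_mul, smul_eq_mul]
  by_cases hxy : x = y
  · subst hxy
    rw [Matrix.one_apply_eq, mul_one, mul_one]
    rfl
  · rw [Matrix.one_apply_ne hxy, mul_zero, mul_zero]
    exact map_zero σ

theorem isIntegral_of_pow_p {z : ℂ} (h : z ^ p = 1) : IsIntegral ℤ z :=
  IsIntegral.of_pow (Fact.out : p.Prime).pos (h.symm ▸ isIntegral_one)

theorem isIntegral_e (s : Symp ρ κ) (k : H) (w : S) : IsIntegral ℤ (e ρ κ k w) := by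
  by_cases hw : w ∈ Kran ρ k
  · exact isIntegral_of_pow_p (e_pow s hw)
  · rw [e_not_mem hw]
    exact isIntegral_zero

theorem isIntegral_E (s : Symp ρ κ) (k : H) (x y : S) : IsIntegral ℤ (E ρ κ k x y) := by
  simp only [E, Matrix.of_apply]
  exact (isIntegral_e s k _).mul (isIntegral_of_pow_p (s.pow x y))

theorem isIntegral_E_pow (s : Symp ρ κ) (k : H) (N : ℕ) (x y : S) :
    IsIntegral ℤ ((E ρ κ k ^ N) x y) := by
  induction N generalizing x y with
  | zero =>
    rw [pow_zero, Matrix.one_apply]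
    split_ifs
    · exact isIntegral_one
    · exact isIntegral_zero
  | succ N ih =>
    rw [pow_succ, Matrix.mul_apply]
    exact IsIntegral.sum _ (fun z _ => (ih x z).mul (isIntegral_E s k z y))

theorem colsum_mem {M : Ideal AlgInt} (hM : IsPModular p M) (s : Symp ρ κ) {k : H}
    (hk : Kran ρ k ≠ ⊥) (z : S) : MemLocalIdeal M (∑ x, E ρ κ k x z) := by
  classical
  have hprime := isPrime_of_isPModular hM
  have h1 : ∑ x, E ρ κ k x z = ∑ w, e ρ κ k w * κ (w + z) z := by
    refine Fintype.sum_equiv (Equiv.subRight z) _ _ (fun x => ?_)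
    show E ρ κ k x z = e ρ κ k (x - z) * κ (x - z + z) z
    rw [sub_add_cancel]
    rfl
  have h2 : ∀ w, e ρ κ k w * κ (w + z) z = (if w ∈ Kran ρ k then
      (e ρ κ k w * κ (w + z) z - 1) else 0) + (if w ∈ Kran ρ k then 1 else 0) := by
    intro w
    by_cases hw : w ∈ Kran ρ k
    · rw [if_pos hw, if_pos hw]; ring
    · rw [if_neg hw, if_neg hw, e_not_mem hw]; ring
  rw [h1, Finset.sum_congr rfl (fun w _ => h2 w), Finset.sum_add_distrib]
  refine memLocalIdeal_add (memLocalIdeal_sum (fun w _ => ?_)) ?_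
  · by_cases hw : w ∈ Kran ρ k
    · rw [if_pos hw]
      apply Cfsg.Agent.Blocks.Twist.memLocalIdeal_sub_one_of_pow_eq_one hM
      rw [mul_pow, e_pow s hw, s.pow, mul_one]
    · rw [if_neg hw]
      exact memLocalIdeal_zero
  · rw [Finset.sum_boole, ← Fintype.card_subtype, ← Nat.card_eq_fintype_card]
    have h3 : Nat.card {x // x ∈ Kran ρ k} = Nat.card (Kran ρ k) := rfl
    rw [h3, Cfsg.Agent.Blocks.Local.memLocalIdeal_natCast_iff hM, card_submodule]
    refine dvd_pow_self p ?_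
    intro h0
    have : Module.Finite (ZMod p) S := Module.Finite.of_finite
    rw [Submodule.finrank_eq_zero] at h0
    exact hk h0

theorem mem_of_pow {M : Ideal AlgInt} (hM : IsPModular p M) (s : Symp ρ κ) {k : H}
    (hk : Kran ρ k ≠ ⊥) {N : ℕ} (hN : N ≠ 0) {l : ℂ}
    (h : E ρ κ k ^ N = l • (1 : Matrix S S ℂ)) : MemLocalIdeal M l := by
  have hprime := isPrime_of_isPModular hM
  obtain ⟨N, rfl⟩ := Nat.exists_eq_succ_of_ne_zero hN
  have h1 : l = ∑ x, (E ρ κ k ^ (N + 1)) x 0 := by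
    rw [h, Finset.sum_eq_single 0]
    · simp
    · intro b _ hb
      rw [Matrix.smul_apply, Matrix.one_apply_ne hb, smul_zero]
    · intro h0
      exact absurd (Finset.mem_univ _) h0
  rw [h1, pow_succ']
  simp_rw [Matrix.mul_apply]
  rw [Finset.sum_comm]
  refine memLocalIdeal_sum (fun z _ => ?_)
  rw [← Finset.sum_mul]
  exact memLocalIdeal_mul_right (colsum_mem hM s hk z)
    (memLocalRing_of_isIntegral (isIntegral_E_pow s k N z 0))

/-- **`δ` for an alternating form.** -/
theorem exists_delta_symp {M : Ideal AlgInt} (hM : IsPModular p M) (s : Symp ρ κ)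
    (hp : ¬ p ∣ Nat.card H) (hp2 : p ≠ 2) : ∃ δ : H → ℂ, Delta M (fun h s => ρ h s) δ := by
  have hprime := isPrime_of_isPModular hM
  have : Module.Finite (ZMod p) S := Module.Finite.of_finite
  have hcop : Nat.Coprime (Fintype.card S) (Nat.card H) := by
    rw [← Nat.card_eq_fintype_card, Module.natCard_eq_pow_finrank (K := ZMod p) (V := S),
      Nat.card_zmod]
    exact Nat.Coprime.pow_left _ ((Nat.Prime.coprime_iff_not_dvd Fact.out).2 hp)
  obtain ⟨μ, hμ0, hμ, hμ1⟩ := exists_mu rfl hcop (fun g : H => E ρ κ g)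
    (fun g h => (E ρ κ g * E ρ κ h) 0 0) (E_mul_E s hp hp2) (det_E_ne_zero s hp hp2) (E_one s) ⟨0⟩
  let Ω : H →* Matrix S S ℂ :=
    { toFun := fun h => (μ h)⁻¹ • E ρ κ h
      map_one' := by rw [hμ1, inv_one, one_smul, E_one s]
      map_mul' := by
        intro g h
        rw [Matrix.smul_mul, Matrix.mul_smul, smul_smul, E_mul_E s hp hp2, smul_smul]
        congr 1
        have h1 := hμ g h
        have h2 := hμ0 g
        have h3 := hμ0 h
        have h4 := hμ0 (g * h)
        field_simp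
        rw [h1, mul_comm] }
  have hΩ : ∀ h, Ω h = (μ h)⁻¹ • E ρ κ h := fun h => rfl
  have hpow : ∀ h : H, E ρ κ h ^ (Nat.card H) = (μ h ^ (Nat.card H)) • (1 : Matrix S S ℂ) := by
    intro h
    have h1 : E ρ κ h = μ h • Ω h := by
      rw [hΩ, smul_smul, mul_inv_cancel₀ (hμ0 h), one_smul]
    rw [h1, smul_pow, ← map_pow, pow_card_eq_one', map_one]
  have hΘ := Cfsg.Agent.S0148.isCharacter_of_matrix Ω
  have hΘ' : ∀ h, (Ω h).trace = (μ h)⁻¹ * (Nat.card S : ℂ) := by
    intro h
    rw [hΩ, Matrix.trace_smul, smul_eq_mul]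
    congr 1
    unfold Matrix.trace
    have h1 : ∀ x : S, (E ρ κ h).diag x = 1 := by
      intro x
      simp only [Matrix.diag_apply, E, Matrix.of_apply]
      rw [sub_self, e_zero s, s.self, mul_one]
    rw [Finset.sum_congr rfl (fun x _ => h1 x)]
    simp [Nat.card_eq_fintype_card]
  have hcardH : Nat.card H ≠ 0 := Nat.card_pos.ne'
  have hnorm : ∀ (σ : ℂ ≃+* ℂ) (h : H), ‖σ (μ h)‖ ^ 2 = Nat.card (Kran ρ h) := by
    intro σ h
    have h1 := norm_of_pow (s.map σ) hp hp2 h (map_of_pow s σ h (hpow h))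
    rw [map_pow, norm_pow, ← pow_mul, mul_comm, pow_mul] at h1
    exact (pow_left_inj₀ (by positivity) (by positivity) hcardH).1 h1
  have hprod : ∀ h : H, piFix ρ h * μ h = conj ((Ω h).trace) := by
    intro h
    rw [hΘ', map_mul, map_inv₀, Complex.conj_natCast]
    have h1 := hnorm (RingEquiv.refl ℂ) h
    have h2 : μ h * conj (μ h) = (Nat.card (Kran ρ h) : ℂ) := by
      rw [Complex.mul_conj, Complex.normSq_eq_norm_sq]
      have h3 : (RingEquiv.refl ℂ) (μ h) = μ h := rfl
      rw [h3] at h1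
      rw [h1]
      push_cast
      rfl
    have h4 : conj (μ h) ≠ 0 := by
      rw [Ne, map_eq_zero]
      exact hμ0 h
    rw [← card_mul ρ h]
    push_cast
    rw [← h2]
    unfold piFix
    field_simp
  have hint : ∀ h, IsIntegral ℤ (μ h) := by
    intro h
    have h1 := isIntegral_E_pow s h (Nat.card H) 0 0
    rw [hpow, Matrix.smul_apply, Matrix.one_apply_eq, smul_eq_mul, mul_one] at h1
    exact IsIntegral.of_pow Nat.card_pos h1
  refine ⟨μ, ?_, ?_, hμ1, ?_, ?_⟩
  · refine intCl_of_piFix_mul ρ hp hint ?_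
    have h1 : piFix ρ * μ = fun h => conj ((Ω h).trace) := by
      funext h
      exact hprod h
    rw [h1]
    exact IntCl.of_isCharacter (isCharacter_conj hΘ)
  · refine ⟨Nat.card H, hcardH, fun h => ?_⟩
    have h1 : μ h = conj ((Ω h).trace) / piFix ρ h := by
      rw [← hprod, mul_div_cancel_left₀ _ (piFix_ne_zero ρ h)]
    rw [h1]
    refine div_mem (character_mem_Cyc (isCharacter_conj hΘ) hcardH dvd_rfl h) ?_
    unfold piFix
    exact natCast_mem _ _
  · rintro h ⟨x, hx⟩
    have hK : Kran ρ h ≠ ⊥ := by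
      intro h0
      apply hx
      have h2 := sub_mem_Kran ρ h x
      rw [h0, Submodule.mem_bot, sub_eq_zero] at h2
      exact h2.symm
    rw [← Cfsg.Agent.Blocks.LocalRing.memLocalIdeal_pow_iff hM
      (memLocalRing_of_isIntegral (hint h)) hcardH]
    exact mem_of_pow hM s hK hcardH (hpow h)
  · intro σ h
    rw [hnorm]
    have h3 : Nat.card {s : S // ρ h s = s} = Nat.card (Cfix ρ h) :=
      Nat.card_congr (Equiv.subtypeEquivRight (fun x => (mem_Cfix ρ).symm))
    rw [h3, mul_comm]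
    exact_mod_cast card_mul ρ h

theorem symp_of_form (B : LinearMap.BilinForm (ZMod p) S) (halt : ∀ x, B x x = 0)
    (hinv : ∀ h x y, B (ρ h x) (ρ h y) = B x y) (hnd : ∀ x, (∀ y, B x y = 0) → x = 0)
    {ψ : AddChar (ZMod p) ℂ} (hψ : ψ ≠ 1) : Symp ρ (fun x y => ψ (B x y)) where
  add_left x y z := by
    show ψ (B (x + y) z) = ψ (B x z) * ψ (B y z)
    rw [map_add, LinearMap.add_apply, AddChar.map_add_eq_mul]
  add_right x y z := by
    show ψ (B x (y + z)) = ψ (B x y) * ψ (B x z)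
    rw [map_add, AddChar.map_add_eq_mul]
  self x := by
    show ψ (B x x) = 1
    rw [halt, AddChar.map_zero_eq_one]
  pow x y := addChar_pow ψ _
  nd x h := by
    refine hnd x (fun y => ?_)
    by_contra h0
    apply hψ
    apply DFunLike.ext
    intro t
    have h1 := h ((t / B x y) • y)
    rw [map_smul, smul_eq_mul, div_mul_cancel₀ _ h0] at h1
    rw [h1]
    rfl
  inv h x y := by
    show ψ (B (ρ h x) (ρ h y)) = ψ (B x y)
    rw [hinv]

theorem exists_delta_alternating {M : Ideal AlgInt} (hM : IsPModular p M) (hp : ¬ p ∣ Nat.card H)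
    (hp2 : p ≠ 2) (B : LinearMap.BilinForm (ZMod p) S) (halt : ∀ x, B x x = 0)
    (hinv : ∀ h x y, B (ρ h x) (ρ h y) = B x y) (hnd : ∀ x, (∀ y, B x y = 0) → x = 0) :
    ∃ δ : H → ℂ, Delta M (fun h s => ρ h s) δ := by
  obtain ⟨ψ, hψ⟩ := exists_addChar_ne_one p
  exact exists_delta_symp hM (symp_of_form B halt hinv hnd hψ) hp hp2

end Cfsg.Agent.H718.Weil
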